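import Mathlib
import Cfsg.Agent.H77.HN.Data.Base
import Cfsg.Agent.H77.HN.Checks

/-!
The certificate (generated data).
-/

set_option autoImplicit false
set_option maxRecDepth 100000
set_option linter.all false

namespace H77
namespace HN
namespace Data

noncomputable section

def numLetters : ℕ := 277

def wordOf (l : ℕ) : List ℕ := unpack (wordTab.getD l 0)

def treeI (i c : ℕ) : ℕ := Nat.land (Nat.shiftRight (treeSel i) (Nat.mul 32 c)) 4294967295

def depI (i c : ℕ) : ℕ := Nat.land (Nat.shiftRight (depSel i) (Nat.mul 8 c)) 255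

def sgI (i : ℕ) : List ℕ := sgTab.getD i []

def srcI (k : ℕ) : ℕ := srcTab.getD k 0

def dstI (k : ℕ) : ℕ := dstTab.getD k 0

def nwI (k : ℕ) : List ℕ := unpack (nwTab.getD k 0)

def mwI (k : ℕ) : List ℕ := unpack (mwTab.getD k 0)

def clI (k : ℕ) : ℕ := clTab.getD k 0

/-- the certificate -/
def cert : Cert where
  T := T
  iv := iv
  B := base
  np := 1408
  r := 9
  ne := 101
  sg := sgI
  tree := treeI
  dep := depI
  src := srcI
  dst := dstI
  nw := nwI
  mw := mwI
  cl := clI

end

end Data
end HN
end H77
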