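import Mathlib
import Cfsg.Agent.H77.HN.Data.Cert

/-!
Checks of the letters (generated data).
-/

set_option autoImplicit false
set_option maxRecDepth 100000
set_option linter.all false

namespace H77
namespace HN
namespace Data

noncomputable section

theorem letter7 : letterOK T T (wordOf 7) 7 1408 = true := by decide +kernel

theorem undo7 : undoOK T 8 7 1408 = true := by decide +kernel

theorem letter15 : letterOK T T (wordOf 15) 15 1408 = true := by decide +kernel

theorem undo15 : undoOK T 16 15 1408 = true := by decide +kernel

theorem letter23 : letterOK T T (wordOf 23) 23 1408 = true := by decide +kernel

theorem undo23 : undoOK T 24 23 1408 = true := by decide +kernel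

theorem letter31 : letterOK T T (wordOf 31) 31 1408 = true := by decide +kernel

theorem undo31 : undoOK T 32 31 1408 = true := by decide +kernel

theorem letter39 : letterOK T T (wordOf 39) 39 1408 = true := by decide +kernel

theorem undo39 : undoOK T 40 39 1408 = true := by decide +kernel

theorem letter47 : letterOK T T (wordOf 47) 47 1408 = true := by decide +kernel

theorem undo47 : undoOK T 48 47 1408 = true := by decide +kernel

theorem letter55 : letterOK T T (wordOf 55) 55 1408 = true := by decide +kernel

theorem undo55 : undoOK T 56 55 1408 = true := by decide +kernel

theorem letter63 : letterOK T T (wordOf 63) 63 1408 = true := by decide +kernel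

theorem undo63 : undoOK T 64 63 1408 = true := by decide +kernel

theorem letter71 : letterOK T T (wordOf 71) 71 1408 = true := by decide +kernel

theorem undo71 : undoOK T 72 71 1408 = true := by decide +kernel

theorem letter79 : letterOK T T (wordOf 79) 79 1408 = true := by decide +kernel

theorem undo79 : undoOK T 80 79 1408 = true := by decide +kernel

theorem letter87 : letterOK T T (wordOf 87) 87 1408 = true := by decide +kernel

theorem undo87 : undoOK T 88 87 1408 = true := by decide +kernel

theorem letter95 : letterOK T T (wordOf 95) 95 1408 = true := by decide +kernel

theorem undo95 : undoOK T 96 95 1408 = true := by decide +kernel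

theorem letter103 : letterOK T T (wordOf 103) 103 1408 = true := by decide +kernel

theorem undo103 : undoOK T 104 103 1408 = true := by decide +kernel

theorem letter111 : letterOK T T (wordOf 111) 111 1408 = true := by decide +kernel

theorem undo111 : undoOK T 112 111 1408 = true := by decide +kernel

theorem letter119 : letterOK T T (wordOf 119) 119 1408 = true := by decide +kernel

theorem undo119 : undoOK T 120 119 1408 = true := by decide +kernel

theorem letter127 : letterOK T T (wordOf 127) 127 1408 = true := by decide +kernel

theorem undo127 : undoOK T 128 127 1408 = true := by decide +kernel

theorem letter135 : letterOK T T (wordOf 135) 135 1408 = true := by decide +kernel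

theorem undo135 : undoOK T 136 135 1408 = true := by decide +kernel

theorem letter143 : letterOK T T (wordOf 143) 143 1408 = true := by decide +kernel

theorem undo143 : undoOK T 144 143 1408 = true := by decide +kernel

theorem letter151 : letterOK T T (wordOf 151) 151 1408 = true := by decide +kernel

theorem undo151 : undoOK T 152 151 1408 = true := by decide +kernel

theorem letter159 : letterOK T T (wordOf 159) 159 1408 = true := by decide +kernel

theorem undo159 : undoOK T 160 159 1408 = true := by decide +kernel

theorem letter167 : letterOK T T (wordOf 167) 167 1408 = true := by decide +kernel

theorem undo167 : undoOK T 168 167 1408 = true := by decide +kernel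

theorem letter175 : letterOK T T (wordOf 175) 175 1408 = true := by decide +kernel

theorem undo175 : undoOK T 176 175 1408 = true := by decide +kernel

theorem letter183 : letterOK T T (wordOf 183) 183 1408 = true := by decide +kernel

theorem undo183 : undoOK T 184 183 1408 = true := by decide +kernel

theorem letter191 : letterOK T T (wordOf 191) 191 1408 = true := by decide +kernel

theorem undo191 : undoOK T 192 191 1408 = true := by decide +kernel

theorem letter199 : letterOK T T (wordOf 199) 199 1408 = true := by decide +kernel

theorem undo199 : undoOK T 200 199 1408 = true := by decide +kernel

theorem letter207 : letterOK T T (wordOf 207) 207 1408 = true := by decide +kernel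

theorem undo207 : undoOK T 208 207 1408 = true := by decide +kernel

theorem letter215 : letterOK T T (wordOf 215) 215 1408 = true := by decide +kernel

theorem undo215 : undoOK T 216 215 1408 = true := by decide +kernel

theorem letter223 : letterOK T T (wordOf 223) 223 1408 = true := by decide +kernel

theorem undo223 : undoOK T 224 223 1408 = true := by decide +kernel

theorem letter231 : letterOK T T (wordOf 231) 231 1408 = true := by decide +kernel

theorem undo231 : undoOK T 232 231 1408 = true := by decide +kernel

theorem letter239 : letterOK T T (wordOf 239) 239 1408 = true := by decide +kernel

theorem undo239 : undoOK T 240 239 1408 = true := by decide +kernel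

theorem letter247 : letterOK T T (wordOf 247) 247 1408 = true := by decide +kernel

theorem undo247 : undoOK T 248 247 1408 = true := by decide +kernel

theorem letter255 : letterOK T T (wordOf 255) 255 1408 = true := by decide +kernel

theorem undo255 : undoOK T 256 255 1408 = true := by decide +kernel

theorem letter263 : letterOK T T (wordOf 263) 263 1408 = true := by decide +kernel

theorem undo263 : undoOK T 264 263 1408 = true := by decide +kernel

theorem letter271 : letterOK T T (wordOf 271) 271 1408 = true := by decide +kernel

theorem undo271 : undoOK T 272 271 1408 = true := by decide +kernel


end

end Data
end HN
end H77
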