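import Mathlib
import Cfsg.Agent.H77.HN.Data.Cert

/-!
Checks of the letters (generated data).
-/

set_option autoImplicit false
set_option maxRecDepth 100000
set_option linter.all false

namespace H77
namespace HN
namespace Data

noncomputable section

theorem letter9 : letterOK T T (wordOf 9) 9 1408 = true := by decide +kernel

theorem undo9 : undoOK T 10 9 1408 = true := by decide +kernel

theorem letter17 : letterOK T T (wordOf 17) 17 1408 = true := by decide +kernel

theorem undo17 : undoOK T 18 17 1408 = true := by decide +kernel

theorem letter25 : letterOK T T (wordOf 25) 25 1408 = true := by decide +kernel

theorem undo25 : undoOK T 26 25 1408 = true := by decide +kernel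

theorem letter33 : letterOK T T (wordOf 33) 33 1408 = true := by decide +kernel

theorem undo33 : undoOK T 34 33 1408 = true := by decide +kernel

theorem letter41 : letterOK T T (wordOf 41) 41 1408 = true := by decide +kernel

theorem undo41 : undoOK T 42 41 1408 = true := by decide +kernel

theorem letter49 : letterOK T T (wordOf 49) 49 1408 = true := by decide +kernel

theorem undo49 : undoOK T 50 49 1408 = true := by decide +kernel

theorem letter57 : letterOK T T (wordOf 57) 57 1408 = true := by decide +kernel

theorem undo57 : undoOK T 58 57 1408 = true := by decide +kernel

theorem letter65 : letterOK T T (wordOf 65) 65 1408 = true := by decide +kernel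

theorem undo65 : undoOK T 66 65 1408 = true := by decide +kernel

theorem letter73 : letterOK T T (wordOf 73) 73 1408 = true := by decide +kernel

theorem undo73 : undoOK T 74 73 1408 = true := by decide +kernel

theorem letter81 : letterOK T T (wordOf 81) 81 1408 = true := by decide +kernel

theorem undo81 : undoOK T 82 81 1408 = true := by decide +kernel

theorem letter89 : letterOK T T (wordOf 89) 89 1408 = true := by decide +kernel

theorem undo89 : undoOK T 90 89 1408 = true := by decide +kernel

theorem letter97 : letterOK T T (wordOf 97) 97 1408 = true := by decide +kernel

theorem undo97 : undoOK T 98 97 1408 = true := by decide +kernel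

theorem letter105 : letterOK T T (wordOf 105) 105 1408 = true := by decide +kernel

theorem undo105 : undoOK T 106 105 1408 = true := by decide +kernel

theorem letter113 : letterOK T T (wordOf 113) 113 1408 = true := by decide +kernel

theorem undo113 : undoOK T 114 113 1408 = true := by decide +kernel

theorem letter121 : letterOK T T (wordOf 121) 121 1408 = true := by decide +kernel

theorem undo121 : undoOK T 122 121 1408 = true := by decide +kernel

theorem letter129 : letterOK T T (wordOf 129) 129 1408 = true := by decide +kernel

theorem undo129 : undoOK T 130 129 1408 = true := by decide +kernel

theorem letter137 : letterOK T T (wordOf 137) 137 1408 = true := by decide +kernel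

theorem undo137 : undoOK T 138 137 1408 = true := by decide +kernel

theorem letter145 : letterOK T T (wordOf 145) 145 1408 = true := by decide +kernel

theorem undo145 : undoOK T 146 145 1408 = true := by decide +kernel

theorem letter153 : letterOK T T (wordOf 153) 153 1408 = true := by decide +kernel

theorem undo153 : undoOK T 154 153 1408 = true := by decide +kernel

theorem letter161 : letterOK T T (wordOf 161) 161 1408 = true := by decide +kernel

theorem undo161 : undoOK T 162 161 1408 = true := by decide +kernel

theorem letter169 : letterOK T T (wordOf 169) 169 1408 = true := by decide +kernel

theorem undo169 : undoOK T 170 169 1408 = true := by decide +kernel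

theorem letter177 : letterOK T T (wordOf 177) 177 1408 = true := by decide +kernel

theorem undo177 : undoOK T 178 177 1408 = true := by decide +kernel

theorem letter185 : letterOK T T (wordOf 185) 185 1408 = true := by decide +kernel

theorem undo185 : undoOK T 186 185 1408 = true := by decide +kernel

theorem letter193 : letterOK T T (wordOf 193) 193 1408 = true := by decide +kernel

theorem undo193 : undoOK T 194 193 1408 = true := by decide +kernel

theorem letter201 : letterOK T T (wordOf 201) 201 1408 = true := by decide +kernel

theorem undo201 : undoOK T 202 201 1408 = true := by decide +kernel

theorem letter209 : letterOK T T (wordOf 209) 209 1408 = true := by decide +kernel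

theorem undo209 : undoOK T 210 209 1408 = true := by decide +kernel

theorem letter217 : letterOK T T (wordOf 217) 217 1408 = true := by decide +kernel

theorem undo217 : undoOK T 218 217 1408 = true := by decide +kernel

theorem letter225 : letterOK T T (wordOf 225) 225 1408 = true := by decide +kernel

theorem undo225 : undoOK T 226 225 1408 = true := by decide +kernel

theorem letter233 : letterOK T T (wordOf 233) 233 1408 = true := by decide +kernel

theorem undo233 : undoOK T 234 233 1408 = true := by decide +kernel

theorem letter241 : letterOK T T (wordOf 241) 241 1408 = true := by decide +kernel

theorem undo241 : undoOK T 242 241 1408 = true := by decide +kernel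

theorem letter249 : letterOK T T (wordOf 249) 249 1408 = true := by decide +kernel

theorem undo249 : undoOK T 250 249 1408 = true := by decide +kernel

theorem letter257 : letterOK T T (wordOf 257) 257 1408 = true := by decide +kernel

theorem undo257 : undoOK T 258 257 1408 = true := by decide +kernel

theorem letter265 : letterOK T T (wordOf 265) 265 1408 = true := by decide +kernel

theorem undo265 : undoOK T 266 265 1408 = true := by decide +kernel

theorem letter273 : letterOK T T (wordOf 273) 273 1408 = true := by decide +kernel

theorem undo273 : undoOK T 274 273 1408 = true := by decide +kernel


end

end Data
end HN
end H77
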