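import Mathlib
import Cfsg.Agent.H77.HN.Data.Cert

/-!
Checks of the letters (generated data).
-/

set_option autoImplicit false
set_option maxRecDepth 100000
set_option linter.all false

namespace H77
namespace HN
namespace Data

noncomputable section

theorem letter11 : letterOK T T (wordOf 11) 11 1408 = true := by decide +kernel

theorem undo11 : undoOK T 12 11 1408 = true := by decide +kernel

theorem letter19 : letterOK T T (wordOf 19) 19 1408 = true := by decide +kernel

theorem undo19 : undoOK T 20 19 1408 = true := by decide +kernel

theorem letter27 : letterOK T T (wordOf 27) 27 1408 = true := by decide +kernel

theorem undo27 : undoOK T 28 27 1408 = true := by decide +kernel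

theorem letter35 : letterOK T T (wordOf 35) 35 1408 = true := by decide +kernel

theorem undo35 : undoOK T 36 35 1408 = true := by decide +kernel

theorem letter43 : letterOK T T (wordOf 43) 43 1408 = true := by decide +kernel

theorem undo43 : undoOK T 44 43 1408 = true := by decide +kernel

theorem letter51 : letterOK T T (wordOf 51) 51 1408 = true := by decide +kernel

theorem undo51 : undoOK T 52 51 1408 = true := by decide +kernel

theorem letter59 : letterOK T T (wordOf 59) 59 1408 = true := by decide +kernel

theorem undo59 : undoOK T 60 59 1408 = true := by decide +kernel

theorem letter67 : letterOK T T (wordOf 67) 67 1408 = true := by decide +kernel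

theorem undo67 : undoOK T 68 67 1408 = true := by decide +kernel

theorem letter75 : letterOK T T (wordOf 75) 75 1408 = true := by decide +kernel

theorem undo75 : undoOK T 76 75 1408 = true := by decide +kernel

theorem letter83 : letterOK T T (wordOf 83) 83 1408 = true := by decide +kernel

theorem undo83 : undoOK T 84 83 1408 = true := by decide +kernel

theorem letter91 : letterOK T T (wordOf 91) 91 1408 = true := by decide +kernel

theorem undo91 : undoOK T 92 91 1408 = true := by decide +kernel

theorem letter99 : letterOK T T (wordOf 99) 99 1408 = true := by decide +kernel

theorem undo99 : undoOK T 100 99 1408 = true := by decide +kernel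

theorem letter107 : letterOK T T (wordOf 107) 107 1408 = true := by decide +kernel

theorem undo107 : undoOK T 108 107 1408 = true := by decide +kernel

theorem letter115 : letterOK T T (wordOf 115) 115 1408 = true := by decide +kernel

theorem undo115 : undoOK T 116 115 1408 = true := by decide +kernel

theorem letter123 : letterOK T T (wordOf 123) 123 1408 = true := by decide +kernel

theorem undo123 : undoOK T 124 123 1408 = true := by decide +kernel

theorem letter131 : letterOK T T (wordOf 131) 131 1408 = true := by decide +kernel

theorem undo131 : undoOK T 132 131 1408 = true := by decide +kernel

theorem letter139 : letterOK T T (wordOf 139) 139 1408 = true := by decide +kernel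

theorem undo139 : undoOK T 140 139 1408 = true := by decide +kernel

theorem letter147 : letterOK T T (wordOf 147) 147 1408 = true := by decide +kernel

theorem undo147 : undoOK T 148 147 1408 = true := by decide +kernel

theorem letter155 : letterOK T T (wordOf 155) 155 1408 = true := by decide +kernel

theorem undo155 : undoOK T 156 155 1408 = true := by decide +kernel

theorem letter163 : letterOK T T (wordOf 163) 163 1408 = true := by decide +kernel

theorem undo163 : undoOK T 164 163 1408 = true := by decide +kernel

theorem letter171 : letterOK T T (wordOf 171) 171 1408 = true := by decide +kernel

theorem undo171 : undoOK T 172 171 1408 = true := by decide +kernel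

theorem letter179 : letterOK T T (wordOf 179) 179 1408 = true := by decide +kernel

theorem undo179 : undoOK T 180 179 1408 = true := by decide +kernel

theorem letter187 : letterOK T T (wordOf 187) 187 1408 = true := by decide +kernel

theorem undo187 : undoOK T 188 187 1408 = true := by decide +kernel

theorem letter195 : letterOK T T (wordOf 195) 195 1408 = true := by decide +kernel

theorem undo195 : undoOK T 196 195 1408 = true := by decide +kernel

theorem letter203 : letterOK T T (wordOf 203) 203 1408 = true := by decide +kernel

theorem undo203 : undoOK T 204 203 1408 = true := by decide +kernel

theorem letter211 : letterOK T T (wordOf 211) 211 1408 = true := by decide +kernel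

theorem undo211 : undoOK T 212 211 1408 = true := by decide +kernel

theorem letter219 : letterOK T T (wordOf 219) 219 1408 = true := by decide +kernel

theorem undo219 : undoOK T 220 219 1408 = true := by decide +kernel

theorem letter227 : letterOK T T (wordOf 227) 227 1408 = true := by decide +kernel

theorem undo227 : undoOK T 228 227 1408 = true := by decide +kernel

theorem letter235 : letterOK T T (wordOf 235) 235 1408 = true := by decide +kernel

theorem undo235 : undoOK T 236 235 1408 = true := by decide +kernel

theorem letter243 : letterOK T T (wordOf 243) 243 1408 = true := by decide +kernel

theorem undo243 : undoOK T 244 243 1408 = true := by decide +kernel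

theorem letter251 : letterOK T T (wordOf 251) 251 1408 = true := by decide +kernel

theorem undo251 : undoOK T 252 251 1408 = true := by decide +kernel

theorem letter259 : letterOK T T (wordOf 259) 259 1408 = true := by decide +kernel

theorem undo259 : undoOK T 260 259 1408 = true := by decide +kernel

theorem letter267 : letterOK T T (wordOf 267) 267 1408 = true := by decide +kernel

theorem undo267 : undoOK T 268 267 1408 = true := by decide +kernel

theorem letter275 : letterOK T T (wordOf 275) 275 1408 = true := by decide +kernel

theorem undo275 : undoOK T 276 275 1408 = true := by decide +kernel


end

end Data
end HN
end H77
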