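import Mathlib
import Cfsg.Agent.H77.HN.Data.Cert

/-!
Checks of the letters (generated data).
-/

set_option autoImplicit false
set_option maxRecDepth 100000
set_option linter.all false

namespace H77
namespace HN
namespace Data

noncomputable section

theorem letter13 : letterOK T T (wordOf 13) 13 1408 = true := by decide +kernel

theorem undo13 : undoOK T 14 13 1408 = true := by decide +kernel

theorem letter21 : letterOK T T (wordOf 21) 21 1408 = true := by decide +kernel

theorem undo21 : undoOK T 22 21 1408 = true := by decide +kernel

theorem letter29 : letterOK T T (wordOf 29) 29 1408 = true := by decide +kernel

theorem undo29 : undoOK T 30 29 1408 = true := by decide +kernel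

theorem letter37 : letterOK T T (wordOf 37) 37 1408 = true := by decide +kernel

theorem undo37 : undoOK T 38 37 1408 = true := by decide +kernel

theorem letter45 : letterOK T T (wordOf 45) 45 1408 = true := by decide +kernel

theorem undo45 : undoOK T 46 45 1408 = true := by decide +kernel

theorem letter53 : letterOK T T (wordOf 53) 53 1408 = true := by decide +kernel

theorem undo53 : undoOK T 54 53 1408 = true := by decide +kernel

theorem letter61 : letterOK T T (wordOf 61) 61 1408 = true := by decide +kernel

theorem undo61 : undoOK T 62 61 1408 = true := by decide +kernel

theorem letter69 : letterOK T T (wordOf 69) 69 1408 = true := by decide +kernel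

theorem undo69 : undoOK T 70 69 1408 = true := by decide +kernel

theorem letter77 : letterOK T T (wordOf 77) 77 1408 = true := by decide +kernel

theorem undo77 : undoOK T 78 77 1408 = true := by decide +kernel

theorem letter85 : letterOK T T (wordOf 85) 85 1408 = true := by decide +kernel

theorem undo85 : undoOK T 86 85 1408 = true := by decide +kernel

theorem letter93 : letterOK T T (wordOf 93) 93 1408 = true := by decide +kernel

theorem undo93 : undoOK T 94 93 1408 = true := by decide +kernel

theorem letter101 : letterOK T T (wordOf 101) 101 1408 = true := by decide +kernel

theorem undo101 : undoOK T 102 101 1408 = true := by decide +kernel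

theorem letter109 : letterOK T T (wordOf 109) 109 1408 = true := by decide +kernel

theorem undo109 : undoOK T 110 109 1408 = true := by decide +kernel

theorem letter117 : letterOK T T (wordOf 117) 117 1408 = true := by decide +kernel

theorem undo117 : undoOK T 118 117 1408 = true := by decide +kernel

theorem letter125 : letterOK T T (wordOf 125) 125 1408 = true := by decide +kernel

theorem undo125 : undoOK T 126 125 1408 = true := by decide +kernel

theorem letter133 : letterOK T T (wordOf 133) 133 1408 = true := by decide +kernel

theorem undo133 : undoOK T 134 133 1408 = true := by decide +kernel

theorem letter141 : letterOK T T (wordOf 141) 141 1408 = true := by decide +kernel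

theorem undo141 : undoOK T 142 141 1408 = true := by decide +kernel

theorem letter149 : letterOK T T (wordOf 149) 149 1408 = true := by decide +kernel

theorem undo149 : undoOK T 150 149 1408 = true := by decide +kernel

theorem letter157 : letterOK T T (wordOf 157) 157 1408 = true := by decide +kernel

theorem undo157 : undoOK T 158 157 1408 = true := by decide +kernel

theorem letter165 : letterOK T T (wordOf 165) 165 1408 = true := by decide +kernel

theorem undo165 : undoOK T 166 165 1408 = true := by decide +kernel

theorem letter173 : letterOK T T (wordOf 173) 173 1408 = true := by decide +kernel

theorem undo173 : undoOK T 174 173 1408 = true := by decide +kernel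

theorem letter181 : letterOK T T (wordOf 181) 181 1408 = true := by decide +kernel

theorem undo181 : undoOK T 182 181 1408 = true := by decide +kernel

theorem letter189 : letterOK T T (wordOf 189) 189 1408 = true := by decide +kernel

theorem undo189 : undoOK T 190 189 1408 = true := by decide +kernel

theorem letter197 : letterOK T T (wordOf 197) 197 1408 = true := by decide +kernel

theorem undo197 : undoOK T 198 197 1408 = true := by decide +kernel

theorem letter205 : letterOK T T (wordOf 205) 205 1408 = true := by decide +kernel

theorem undo205 : undoOK T 206 205 1408 = true := by decide +kernel

theorem letter213 : letterOK T T (wordOf 213) 213 1408 = true := by decide +kernel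

theorem undo213 : undoOK T 214 213 1408 = true := by decide +kernel

theorem letter221 : letterOK T T (wordOf 221) 221 1408 = true := by decide +kernel

theorem undo221 : undoOK T 222 221 1408 = true := by decide +kernel

theorem letter229 : letterOK T T (wordOf 229) 229 1408 = true := by decide +kernel

theorem undo229 : undoOK T 230 229 1408 = true := by decide +kernel

theorem letter237 : letterOK T T (wordOf 237) 237 1408 = true := by decide +kernel

theorem undo237 : undoOK T 238 237 1408 = true := by decide +kernel

theorem letter245 : letterOK T T (wordOf 245) 245 1408 = true := by decide +kernel

theorem undo245 : undoOK T 246 245 1408 = true := by decide +kernel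

theorem letter253 : letterOK T T (wordOf 253) 253 1408 = true := by decide +kernel

theorem undo253 : undoOK T 254 253 1408 = true := by decide +kernel

theorem letter261 : letterOK T T (wordOf 261) 261 1408 = true := by decide +kernel

theorem undo261 : undoOK T 262 261 1408 = true := by decide +kernel

theorem letter269 : letterOK T T (wordOf 269) 269 1408 = true := by decide +kernel

theorem undo269 : undoOK T 270 269 1408 = true := by decide +kernel


end

end Data
end HN
end H77
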