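import Mathlib
import Cfsg.Agent.H77.HN.Data.Cert
import Cfsg.Agent.H77.HN.Data.Loops
import Cfsg.Agent.H77.HN.Data.Deds

/-!
Checks of the short relators (generated data).
-/

set_option autoImplicit false
set_option maxRecDepth 100000
set_option linter.all false

namespace H77
namespace HN
namespace Data

noncomputable section

theorem loopA0_ok : cert.loopsEdge [5, 5, 5, 5, 5] 0 loopA0 = true := by decide +kernel

theorem loopA1_ok : cert.loopsEdge [5, 5, 5, 5, 5] 26 loopA1 = true := by decide +kernel

theorem loopA2_ok : cert.loopsEdge [5, 5, 5, 5, 5] 52 loopA2 = true := by decide +kernel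

theorem loopA3_ok : cert.loopsEdge [5, 5, 5, 5, 5] 78 loopA3 = true := by decide +kernel

theorem loopX0_ok : cert.loopsEdge [2, 5, 1, 5, 5] 0 loopX0 = true := by decide +kernel

theorem loopX1_ok : cert.loopsEdge [2, 5, 1, 5, 5] 26 loopX1 = true := by decide +kernel

theorem loopX2_ok : cert.loopsEdge [2, 5, 1, 5, 5] 52 loopX2 = true := by decide +kernel

theorem loopX3_ok : cert.loopsEdge [2, 5, 1, 5, 5] 78 loopX3 = true := by decide +kernel

theorem cent : cert.centOK [3, 4, 7, 8] qpts = true := by decide +kernel


end

end Data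
end HN
end H77
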