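import Mathlib
import Cfsg.Agent.H77.HN.Data.Cert
import Cfsg.Agent.H77.HN.Data.LoopsZ0
import Cfsg.Agent.H77.HN.Data.Deds

/-!
Checks of the relator of order three (generated data).
-/

set_option autoImplicit false
set_option maxRecDepth 100000
set_option linter.all false

namespace H77
namespace HN
namespace Data

noncomputable section

theorem loopZ0_0_ok : cert.loopsShift [0, 5, 0, 5, 0, 5] 0 (qpts.take 25) loopZ0_0 = true := by decide +kernel

theorem loopZ0_1_ok : cert.loopsShift [0, 5, 0, 5, 0, 5] 0 (qpts.drop 25) loopZ0_1 = true := by decide +kernel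

theorem loopZ1_0_ok : cert.loopsShift [0, 5, 0, 5, 0, 5] 1 (qpts.take 25) loopZ1_0 = true := by decide +kernel

theorem loopZ1_1_ok : cert.loopsShift [0, 5, 0, 5, 0, 5] 1 (qpts.drop 25) loopZ1_1 = true := by decide +kernel

theorem loopZ2_0_ok : cert.loopsShift [0, 5, 0, 5, 0, 5] 2 (qpts.take 25) loopZ2_0 = true := by decide +kernel

theorem loopZ2_1_ok : cert.loopsShift [0, 5, 0, 5, 0, 5] 2 (qpts.drop 25) loopZ2_1 = true := by decide +kernel

theorem loopZ3_0_ok : cert.loopsShift [0, 5, 0, 5, 0, 5] 3 (qpts.take 25) loopZ3_0 = true := by decide +kernel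

theorem loopZ3_1_ok : cert.loopsShift [0, 5, 0, 5, 0, 5] 3 (qpts.drop 25) loopZ3_1 = true := by decide +kernel

theorem loopZ4_0_ok : cert.loopsShift [0, 5, 0, 5, 0, 5] 4 (qpts.take 25) loopZ4_0 = true := by decide +kernel

theorem loopZ4_1_ok : cert.loopsShift [0, 5, 0, 5, 0, 5] 4 (qpts.drop 25) loopZ4_1 = true := by decide +kernel

theorem loopZ5_0_ok : cert.loopsShift [0, 5, 0, 5, 0, 5] 5 (qpts.take 25) loopZ5_0 = true := by decide +kernel

theorem loopZ5_1_ok : cert.loopsShift [0, 5, 0, 5, 0, 5] 5 (qpts.drop 25) loopZ5_1 = true := by decide +kernel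

theorem loopZ6_0_ok : cert.loopsShift [0, 5, 0, 5, 0, 5] 6 (qpts.take 25) loopZ6_0 = true := by decide +kernel

theorem loopZ6_1_ok : cert.loopsShift [0, 5, 0, 5, 0, 5] 6 (qpts.drop 25) loopZ6_1 = true := by decide +kernel

theorem loopZ7_0_ok : cert.loopsShift [0, 5, 0, 5, 0, 5] 7 (qpts.take 25) loopZ7_0 = true := by decide +kernel

theorem loopZ7_1_ok : cert.loopsShift [0, 5, 0, 5, 0, 5] 7 (qpts.drop 25) loopZ7_1 = true := by decide +kernel

theorem loopZ8_0_ok : cert.loopsShift [0, 5, 0, 5, 0, 5] 8 (qpts.take 25) loopZ8_0 = true := by decide +kernel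

theorem loopZ8_1_ok : cert.loopsShift [0, 5, 0, 5, 0, 5] 8 (qpts.drop 25) loopZ8_1 = true := by decide +kernel

theorem loopZ9_0_ok : cert.loopsShift [0, 5, 0, 5, 0, 5] 9 (qpts.take 25) loopZ9_0 = true := by decide +kernel

theorem loopZ9_1_ok : cert.loopsShift [0, 5, 0, 5, 0, 5] 9 (qpts.drop 25) loopZ9_1 = true := by decide +kernel

theorem loopZ10_0_ok : cert.loopsShift [0, 5, 0, 5, 0, 5] 10 (qpts.take 25) loopZ10_0 = true := by decide +kernel

theorem loopZ10_1_ok : cert.loopsShift [0, 5, 0, 5, 0, 5] 10 (qpts.drop 25) loopZ10_1 = true := by decide +kernel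

theorem loopZ11_0_ok : cert.loopsShift [0, 5, 0, 5, 0, 5] 11 (qpts.take 25) loopZ11_0 = true := by decide +kernel

theorem loopZ11_1_ok : cert.loopsShift [0, 5, 0, 5, 0, 5] 11 (qpts.drop 25) loopZ11_1 = true := by decide +kernel

theorem loopZ12_0_ok : cert.loopsShift [0, 5, 0, 5, 0, 5] 12 (qpts.take 25) loopZ12_0 = true := by decide +kernel

theorem loopZ12_1_ok : cert.loopsShift [0, 5, 0, 5, 0, 5] 12 (qpts.drop 25) loopZ12_1 = true := by decide +kernel


end

end Data
end HN
end H77
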