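import Mathlib
import Cfsg.Agent.H77.HN.Data.Cert
import Cfsg.Agent.H77.HN.Data.LoopsZ1
import Cfsg.Agent.H77.HN.Data.Deds

/-!
Checks of the relator of order three (generated data).
-/

set_option autoImplicit false
set_option maxRecDepth 100000
set_option linter.all false

namespace H77
namespace HN
namespace Data

noncomputable section

theorem loopZ13_0_ok : cert.loopsShift [0, 5, 0, 5, 0, 5] 13 (qpts.take 25) loopZ13_0 = true := by decide +kernel

theorem loopZ13_1_ok : cert.loopsShift [0, 5, 0, 5, 0, 5] 13 (qpts.drop 25) loopZ13_1 = true := by decide +kernel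

theorem loopZ14_0_ok : cert.loopsShift [0, 5, 0, 5, 0, 5] 14 (qpts.take 25) loopZ14_0 = true := by decide +kernel

theorem loopZ14_1_ok : cert.loopsShift [0, 5, 0, 5, 0, 5] 14 (qpts.drop 25) loopZ14_1 = true := by decide +kernel

theorem loopZ15_0_ok : cert.loopsShift [0, 5, 0, 5, 0, 5] 15 (qpts.take 25) loopZ15_0 = true := by decide +kernel

theorem loopZ15_1_ok : cert.loopsShift [0, 5, 0, 5, 0, 5] 15 (qpts.drop 25) loopZ15_1 = true := by decide +kernel

theorem loopZ16_0_ok : cert.loopsShift [0, 5, 0, 5, 0, 5] 16 (qpts.take 25) loopZ16_0 = true := by decide +kernel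

theorem loopZ16_1_ok : cert.loopsShift [0, 5, 0, 5, 0, 5] 16 (qpts.drop 25) loopZ16_1 = true := by decide +kernel

theorem loopZ17_0_ok : cert.loopsShift [0, 5, 0, 5, 0, 5] 17 (qpts.take 25) loopZ17_0 = true := by decide +kernel

theorem loopZ17_1_ok : cert.loopsShift [0, 5, 0, 5, 0, 5] 17 (qpts.drop 25) loopZ17_1 = true := by decide +kernel

theorem loopZ18_0_ok : cert.loopsShift [0, 5, 0, 5, 0, 5] 18 (qpts.take 25) loopZ18_0 = true := by decide +kernel

theorem loopZ18_1_ok : cert.loopsShift [0, 5, 0, 5, 0, 5] 18 (qpts.drop 25) loopZ18_1 = true := by decide +kernel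

theorem loopZ19_0_ok : cert.loopsShift [0, 5, 0, 5, 0, 5] 19 (qpts.take 25) loopZ19_0 = true := by decide +kernel

theorem loopZ19_1_ok : cert.loopsShift [0, 5, 0, 5, 0, 5] 19 (qpts.drop 25) loopZ19_1 = true := by decide +kernel

theorem loopZ20_0_ok : cert.loopsShift [0, 5, 0, 5, 0, 5] 20 (qpts.take 25) loopZ20_0 = true := by decide +kernel

theorem loopZ20_1_ok : cert.loopsShift [0, 5, 0, 5, 0, 5] 20 (qpts.drop 25) loopZ20_1 = true := by decide +kernel

theorem loopZ21_0_ok : cert.loopsShift [0, 5, 0, 5, 0, 5] 21 (qpts.take 25) loopZ21_0 = true := by decide +kernel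

theorem loopZ21_1_ok : cert.loopsShift [0, 5, 0, 5, 0, 5] 21 (qpts.drop 25) loopZ21_1 = true := by decide +kernel

theorem loopZ22_0_ok : cert.loopsShift [0, 5, 0, 5, 0, 5] 22 (qpts.take 25) loopZ22_0 = true := by decide +kernel

theorem loopZ22_1_ok : cert.loopsShift [0, 5, 0, 5, 0, 5] 22 (qpts.drop 25) loopZ22_1 = true := by decide +kernel

theorem loopZ23_0_ok : cert.loopsShift [0, 5, 0, 5, 0, 5] 23 (qpts.take 25) loopZ23_0 = true := by decide +kernel

theorem loopZ23_1_ok : cert.loopsShift [0, 5, 0, 5, 0, 5] 23 (qpts.drop 25) loopZ23_1 = true := by decide +kernel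

theorem loopZ24_0_ok : cert.loopsShift [0, 5, 0, 5, 0, 5] 24 (qpts.take 25) loopZ24_0 = true := by decide +kernel

theorem loopZ24_1_ok : cert.loopsShift [0, 5, 0, 5, 0, 5] 24 (qpts.drop 25) loopZ24_1 = true := by decide +kernel

theorem loopZ25_0_ok : cert.loopsShift [0, 5, 0, 5, 0, 5] 25 (qpts.take 25) loopZ25_0 = true := by decide +kernel

theorem loopZ25_1_ok : cert.loopsShift [0, 5, 0, 5, 0, 5] 25 (qpts.drop 25) loopZ25_1 = true := by decide +kernel


end

end Data
end HN
end H77
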