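import Mathlib
import Cfsg.Agent.H77.HN.Data.Cert
import Cfsg.Agent.H77.HN.Data.LoopsZ2
import Cfsg.Agent.H77.HN.Data.Deds

/-!
Checks of the relator of order three (generated data).
-/

set_option autoImplicit false
set_option maxRecDepth 100000
set_option linter.all false

namespace H77
namespace HN
namespace Data

noncomputable section

theorem loopZ26_0_ok : cert.loopsShift [0, 5, 0, 5, 0, 5] 26 (qpts.take 25) loopZ26_0 = true := by decide +kernel

theorem loopZ26_1_ok : cert.loopsShift [0, 5, 0, 5, 0, 5] 26 (qpts.drop 25) loopZ26_1 = true := by decide +kernel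

theorem loopZ27_0_ok : cert.loopsShift [0, 5, 0, 5, 0, 5] 27 (qpts.take 25) loopZ27_0 = true := by decide +kernel

theorem loopZ27_1_ok : cert.loopsShift [0, 5, 0, 5, 0, 5] 27 (qpts.drop 25) loopZ27_1 = true := by decide +kernel

theorem loopZ28_0_ok : cert.loopsShift [0, 5, 0, 5, 0, 5] 28 (qpts.take 25) loopZ28_0 = true := by decide +kernel

theorem loopZ28_1_ok : cert.loopsShift [0, 5, 0, 5, 0, 5] 28 (qpts.drop 25) loopZ28_1 = true := by decide +kernel

theorem loopZ29_0_ok : cert.loopsShift [0, 5, 0, 5, 0, 5] 29 (qpts.take 25) loopZ29_0 = true := by decide +kernel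

theorem loopZ29_1_ok : cert.loopsShift [0, 5, 0, 5, 0, 5] 29 (qpts.drop 25) loopZ29_1 = true := by decide +kernel

theorem loopZ30_0_ok : cert.loopsShift [0, 5, 0, 5, 0, 5] 30 (qpts.take 25) loopZ30_0 = true := by decide +kernel

theorem loopZ30_1_ok : cert.loopsShift [0, 5, 0, 5, 0, 5] 30 (qpts.drop 25) loopZ30_1 = true := by decide +kernel

theorem loopZ31_0_ok : cert.loopsShift [0, 5, 0, 5, 0, 5] 31 (qpts.take 25) loopZ31_0 = true := by decide +kernel

theorem loopZ31_1_ok : cert.loopsShift [0, 5, 0, 5, 0, 5] 31 (qpts.drop 25) loopZ31_1 = true := by decide +kernel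

theorem loopZ32_0_ok : cert.loopsShift [0, 5, 0, 5, 0, 5] 32 (qpts.take 25) loopZ32_0 = true := by decide +kernel

theorem loopZ32_1_ok : cert.loopsShift [0, 5, 0, 5, 0, 5] 32 (qpts.drop 25) loopZ32_1 = true := by decide +kernel

theorem loopZ33_0_ok : cert.loopsShift [0, 5, 0, 5, 0, 5] 33 (qpts.take 25) loopZ33_0 = true := by decide +kernel

theorem loopZ33_1_ok : cert.loopsShift [0, 5, 0, 5, 0, 5] 33 (qpts.drop 25) loopZ33_1 = true := by decide +kernel

theorem loopZ34_0_ok : cert.loopsShift [0, 5, 0, 5, 0, 5] 34 (qpts.take 25) loopZ34_0 = true := by decide +kernel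

theorem loopZ34_1_ok : cert.loopsShift [0, 5, 0, 5, 0, 5] 34 (qpts.drop 25) loopZ34_1 = true := by decide +kernel

theorem loopZ35_0_ok : cert.loopsShift [0, 5, 0, 5, 0, 5] 35 (qpts.take 25) loopZ35_0 = true := by decide +kernel

theorem loopZ35_1_ok : cert.loopsShift [0, 5, 0, 5, 0, 5] 35 (qpts.drop 25) loopZ35_1 = true := by decide +kernel

theorem loopZ36_0_ok : cert.loopsShift [0, 5, 0, 5, 0, 5] 36 (qpts.take 25) loopZ36_0 = true := by decide +kernel

theorem loopZ36_1_ok : cert.loopsShift [0, 5, 0, 5, 0, 5] 36 (qpts.drop 25) loopZ36_1 = true := by decide +kernel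

theorem loopZ37_0_ok : cert.loopsShift [0, 5, 0, 5, 0, 5] 37 (qpts.take 25) loopZ37_0 = true := by decide +kernel

theorem loopZ37_1_ok : cert.loopsShift [0, 5, 0, 5, 0, 5] 37 (qpts.drop 25) loopZ37_1 = true := by decide +kernel

theorem loopZ38_0_ok : cert.loopsShift [0, 5, 0, 5, 0, 5] 38 (qpts.take 25) loopZ38_0 = true := by decide +kernel

theorem loopZ38_1_ok : cert.loopsShift [0, 5, 0, 5, 0, 5] 38 (qpts.drop 25) loopZ38_1 = true := by decide +kernel


end

end Data
end HN
end H77
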