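import Mathlib
import Cfsg.Agent.H77.HN.Data.Cert
import Cfsg.Agent.H77.HN.Data.LoopsZ3
import Cfsg.Agent.H77.HN.Data.Deds

/-!
Checks of the relator of order three (generated data).
-/

set_option autoImplicit false
set_option maxRecDepth 100000
set_option linter.all false

namespace H77
namespace HN
namespace Data

noncomputable section

theorem loopZ39_0_ok : cert.loopsShift [0, 5, 0, 5, 0, 5] 39 (qpts.take 25) loopZ39_0 = true := by decide +kernel

theorem loopZ39_1_ok : cert.loopsShift [0, 5, 0, 5, 0, 5] 39 (qpts.drop 25) loopZ39_1 = true := by decide +kernel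

theorem loopZ40_0_ok : cert.loopsShift [0, 5, 0, 5, 0, 5] 40 (qpts.take 25) loopZ40_0 = true := by decide +kernel

theorem loopZ40_1_ok : cert.loopsShift [0, 5, 0, 5, 0, 5] 40 (qpts.drop 25) loopZ40_1 = true := by decide +kernel

theorem loopZ41_0_ok : cert.loopsShift [0, 5, 0, 5, 0, 5] 41 (qpts.take 25) loopZ41_0 = true := by decide +kernel

theorem loopZ41_1_ok : cert.loopsShift [0, 5, 0, 5, 0, 5] 41 (qpts.drop 25) loopZ41_1 = true := by decide +kernel

theorem loopZ42_0_ok : cert.loopsShift [0, 5, 0, 5, 0, 5] 42 (qpts.take 25) loopZ42_0 = true := by decide +kernel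

theorem loopZ42_1_ok : cert.loopsShift [0, 5, 0, 5, 0, 5] 42 (qpts.drop 25) loopZ42_1 = true := by decide +kernel

theorem loopZ43_0_ok : cert.loopsShift [0, 5, 0, 5, 0, 5] 43 (qpts.take 25) loopZ43_0 = true := by decide +kernel

theorem loopZ43_1_ok : cert.loopsShift [0, 5, 0, 5, 0, 5] 43 (qpts.drop 25) loopZ43_1 = true := by decide +kernel

theorem loopZ44_0_ok : cert.loopsShift [0, 5, 0, 5, 0, 5] 44 (qpts.take 25) loopZ44_0 = true := by decide +kernel

theorem loopZ44_1_ok : cert.loopsShift [0, 5, 0, 5, 0, 5] 44 (qpts.drop 25) loopZ44_1 = true := by decide +kernel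

theorem loopZ45_0_ok : cert.loopsShift [0, 5, 0, 5, 0, 5] 45 (qpts.take 25) loopZ45_0 = true := by decide +kernel

theorem loopZ45_1_ok : cert.loopsShift [0, 5, 0, 5, 0, 5] 45 (qpts.drop 25) loopZ45_1 = true := by decide +kernel

theorem loopZ46_0_ok : cert.loopsShift [0, 5, 0, 5, 0, 5] 46 (qpts.take 25) loopZ46_0 = true := by decide +kernel

theorem loopZ46_1_ok : cert.loopsShift [0, 5, 0, 5, 0, 5] 46 (qpts.drop 25) loopZ46_1 = true := by decide +kernel

theorem loopZ47_0_ok : cert.loopsShift [0, 5, 0, 5, 0, 5] 47 (qpts.take 25) loopZ47_0 = true := by decide +kernel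

theorem loopZ47_1_ok : cert.loopsShift [0, 5, 0, 5, 0, 5] 47 (qpts.drop 25) loopZ47_1 = true := by decide +kernel

theorem loopZ48_0_ok : cert.loopsShift [0, 5, 0, 5, 0, 5] 48 (qpts.take 25) loopZ48_0 = true := by decide +kernel

theorem loopZ48_1_ok : cert.loopsShift [0, 5, 0, 5, 0, 5] 48 (qpts.drop 25) loopZ48_1 = true := by decide +kernel

theorem loopZ49_0_ok : cert.loopsShift [0, 5, 0, 5, 0, 5] 49 (qpts.take 25) loopZ49_0 = true := by decide +kernel

theorem loopZ49_1_ok : cert.loopsShift [0, 5, 0, 5, 0, 5] 49 (qpts.drop 25) loopZ49_1 = true := by decide +kernel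

theorem loopZ50_0_ok : cert.loopsShift [0, 5, 0, 5, 0, 5] 50 (qpts.take 25) loopZ50_0 = true := by decide +kernel

theorem loopZ50_1_ok : cert.loopsShift [0, 5, 0, 5, 0, 5] 50 (qpts.drop 25) loopZ50_1 = true := by decide +kernel

theorem loopZ51_0_ok : cert.loopsShift [0, 5, 0, 5, 0, 5] 51 (qpts.take 25) loopZ51_0 = true := by decide +kernel

theorem loopZ51_1_ok : cert.loopsShift [0, 5, 0, 5, 0, 5] 51 (qpts.drop 25) loopZ51_1 = true := by decide +kernel


end

end Data
end HN
end H77
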