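import Mathlib
import Cfsg.Agent.H77.HN.Data.Cert
import Cfsg.Agent.H77.HN.Data.LoopsZ4
import Cfsg.Agent.H77.HN.Data.Deds

/-!
Checks of the relator of order three (generated data).
-/

set_option autoImplicit false
set_option maxRecDepth 100000
set_option linter.all false

namespace H77
namespace HN
namespace Data

noncomputable section

theorem loopZ52_0_ok : cert.loopsShift [0, 5, 0, 5, 0, 5] 52 (qpts.take 25) loopZ52_0 = true := by decide +kernel

theorem loopZ52_1_ok : cert.loopsShift [0, 5, 0, 5, 0, 5] 52 (qpts.drop 25) loopZ52_1 = true := by decide +kernel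

theorem loopZ53_0_ok : cert.loopsShift [0, 5, 0, 5, 0, 5] 53 (qpts.take 25) loopZ53_0 = true := by decide +kernel

theorem loopZ53_1_ok : cert.loopsShift [0, 5, 0, 5, 0, 5] 53 (qpts.drop 25) loopZ53_1 = true := by decide +kernel

theorem loopZ54_0_ok : cert.loopsShift [0, 5, 0, 5, 0, 5] 54 (qpts.take 25) loopZ54_0 = true := by decide +kernel

theorem loopZ54_1_ok : cert.loopsShift [0, 5, 0, 5, 0, 5] 54 (qpts.drop 25) loopZ54_1 = true := by decide +kernel

theorem loopZ55_0_ok : cert.loopsShift [0, 5, 0, 5, 0, 5] 55 (qpts.take 25) loopZ55_0 = true := by decide +kernel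

theorem loopZ55_1_ok : cert.loopsShift [0, 5, 0, 5, 0, 5] 55 (qpts.drop 25) loopZ55_1 = true := by decide +kernel

theorem loopZ56_0_ok : cert.loopsShift [0, 5, 0, 5, 0, 5] 56 (qpts.take 25) loopZ56_0 = true := by decide +kernel

theorem loopZ56_1_ok : cert.loopsShift [0, 5, 0, 5, 0, 5] 56 (qpts.drop 25) loopZ56_1 = true := by decide +kernel

theorem loopZ57_0_ok : cert.loopsShift [0, 5, 0, 5, 0, 5] 57 (qpts.take 25) loopZ57_0 = true := by decide +kernel

theorem loopZ57_1_ok : cert.loopsShift [0, 5, 0, 5, 0, 5] 57 (qpts.drop 25) loopZ57_1 = true := by decide +kernel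

theorem loopZ58_0_ok : cert.loopsShift [0, 5, 0, 5, 0, 5] 58 (qpts.take 25) loopZ58_0 = true := by decide +kernel

theorem loopZ58_1_ok : cert.loopsShift [0, 5, 0, 5, 0, 5] 58 (qpts.drop 25) loopZ58_1 = true := by decide +kernel

theorem loopZ59_0_ok : cert.loopsShift [0, 5, 0, 5, 0, 5] 59 (qpts.take 25) loopZ59_0 = true := by decide +kernel

theorem loopZ59_1_ok : cert.loopsShift [0, 5, 0, 5, 0, 5] 59 (qpts.drop 25) loopZ59_1 = true := by decide +kernel

theorem loopZ60_0_ok : cert.loopsShift [0, 5, 0, 5, 0, 5] 60 (qpts.take 25) loopZ60_0 = true := by decide +kernel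

theorem loopZ60_1_ok : cert.loopsShift [0, 5, 0, 5, 0, 5] 60 (qpts.drop 25) loopZ60_1 = true := by decide +kernel

theorem loopZ61_0_ok : cert.loopsShift [0, 5, 0, 5, 0, 5] 61 (qpts.take 25) loopZ61_0 = true := by decide +kernel

theorem loopZ61_1_ok : cert.loopsShift [0, 5, 0, 5, 0, 5] 61 (qpts.drop 25) loopZ61_1 = true := by decide +kernel

theorem loopZ62_0_ok : cert.loopsShift [0, 5, 0, 5, 0, 5] 62 (qpts.take 25) loopZ62_0 = true := by decide +kernel

theorem loopZ62_1_ok : cert.loopsShift [0, 5, 0, 5, 0, 5] 62 (qpts.drop 25) loopZ62_1 = true := by decide +kernel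

theorem loopZ63_0_ok : cert.loopsShift [0, 5, 0, 5, 0, 5] 63 (qpts.take 25) loopZ63_0 = true := by decide +kernel

theorem loopZ63_1_ok : cert.loopsShift [0, 5, 0, 5, 0, 5] 63 (qpts.drop 25) loopZ63_1 = true := by decide +kernel

theorem loopZ64_0_ok : cert.loopsShift [0, 5, 0, 5, 0, 5] 64 (qpts.take 25) loopZ64_0 = true := by decide +kernel

theorem loopZ64_1_ok : cert.loopsShift [0, 5, 0, 5, 0, 5] 64 (qpts.drop 25) loopZ64_1 = true := by decide +kernel


end

end Data
end HN
end H77
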