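import Mathlib
import Cfsg.Agent.H77.HN.Data.Cert
import Cfsg.Agent.H77.HN.Data.LoopsZ5
import Cfsg.Agent.H77.HN.Data.Deds

/-!
Checks of the relator of order three (generated data).
-/

set_option autoImplicit false
set_option maxRecDepth 100000
set_option linter.all false

namespace H77
namespace HN
namespace Data

noncomputable section

theorem loopZ65_0_ok : cert.loopsShift [0, 5, 0, 5, 0, 5] 65 (qpts.take 25) loopZ65_0 = true := by decide +kernel

theorem loopZ65_1_ok : cert.loopsShift [0, 5, 0, 5, 0, 5] 65 (qpts.drop 25) loopZ65_1 = true := by decide +kernel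

theorem loopZ66_0_ok : cert.loopsShift [0, 5, 0, 5, 0, 5] 66 (qpts.take 25) loopZ66_0 = true := by decide +kernel

theorem loopZ66_1_ok : cert.loopsShift [0, 5, 0, 5, 0, 5] 66 (qpts.drop 25) loopZ66_1 = true := by decide +kernel

theorem loopZ67_0_ok : cert.loopsShift [0, 5, 0, 5, 0, 5] 67 (qpts.take 25) loopZ67_0 = true := by decide +kernel

theorem loopZ67_1_ok : cert.loopsShift [0, 5, 0, 5, 0, 5] 67 (qpts.drop 25) loopZ67_1 = true := by decide +kernel

theorem loopZ68_0_ok : cert.loopsShift [0, 5, 0, 5, 0, 5] 68 (qpts.take 25) loopZ68_0 = true := by decide +kernel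

theorem loopZ68_1_ok : cert.loopsShift [0, 5, 0, 5, 0, 5] 68 (qpts.drop 25) loopZ68_1 = true := by decide +kernel

theorem loopZ69_0_ok : cert.loopsShift [0, 5, 0, 5, 0, 5] 69 (qpts.take 25) loopZ69_0 = true := by decide +kernel

theorem loopZ69_1_ok : cert.loopsShift [0, 5, 0, 5, 0, 5] 69 (qpts.drop 25) loopZ69_1 = true := by decide +kernel

theorem loopZ70_0_ok : cert.loopsShift [0, 5, 0, 5, 0, 5] 70 (qpts.take 25) loopZ70_0 = true := by decide +kernel

theorem loopZ70_1_ok : cert.loopsShift [0, 5, 0, 5, 0, 5] 70 (qpts.drop 25) loopZ70_1 = true := by decide +kernel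

theorem loopZ71_0_ok : cert.loopsShift [0, 5, 0, 5, 0, 5] 71 (qpts.take 25) loopZ71_0 = true := by decide +kernel

theorem loopZ71_1_ok : cert.loopsShift [0, 5, 0, 5, 0, 5] 71 (qpts.drop 25) loopZ71_1 = true := by decide +kernel

theorem loopZ72_0_ok : cert.loopsShift [0, 5, 0, 5, 0, 5] 72 (qpts.take 25) loopZ72_0 = true := by decide +kernel

theorem loopZ72_1_ok : cert.loopsShift [0, 5, 0, 5, 0, 5] 72 (qpts.drop 25) loopZ72_1 = true := by decide +kernel

theorem loopZ73_0_ok : cert.loopsShift [0, 5, 0, 5, 0, 5] 73 (qpts.take 25) loopZ73_0 = true := by decide +kernel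

theorem loopZ73_1_ok : cert.loopsShift [0, 5, 0, 5, 0, 5] 73 (qpts.drop 25) loopZ73_1 = true := by decide +kernel

theorem loopZ74_0_ok : cert.loopsShift [0, 5, 0, 5, 0, 5] 74 (qpts.take 25) loopZ74_0 = true := by decide +kernel

theorem loopZ74_1_ok : cert.loopsShift [0, 5, 0, 5, 0, 5] 74 (qpts.drop 25) loopZ74_1 = true := by decide +kernel

theorem loopZ75_0_ok : cert.loopsShift [0, 5, 0, 5, 0, 5] 75 (qpts.take 25) loopZ75_0 = true := by decide +kernel

theorem loopZ75_1_ok : cert.loopsShift [0, 5, 0, 5, 0, 5] 75 (qpts.drop 25) loopZ75_1 = true := by decide +kernel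

theorem loopZ76_0_ok : cert.loopsShift [0, 5, 0, 5, 0, 5] 76 (qpts.take 25) loopZ76_0 = true := by decide +kernel

theorem loopZ76_1_ok : cert.loopsShift [0, 5, 0, 5, 0, 5] 76 (qpts.drop 25) loopZ76_1 = true := by decide +kernel

theorem loopZ77_0_ok : cert.loopsShift [0, 5, 0, 5, 0, 5] 77 (qpts.take 25) loopZ77_0 = true := by decide +kernel

theorem loopZ77_1_ok : cert.loopsShift [0, 5, 0, 5, 0, 5] 77 (qpts.drop 25) loopZ77_1 = true := by decide +kernel


end

end Data
end HN
end H77
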