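import Mathlib
import Cfsg.Agent.H77.HN.Data.Cert
import Cfsg.Agent.H77.HN.Data.LoopsZ6
import Cfsg.Agent.H77.HN.Data.Deds

/-!
Checks of the relator of order three (generated data).
-/

set_option autoImplicit false
set_option maxRecDepth 100000
set_option linter.all false

namespace H77
namespace HN
namespace Data

noncomputable section

theorem loopZ78_0_ok : cert.loopsShift [0, 5, 0, 5, 0, 5] 78 (qpts.take 25) loopZ78_0 = true := by decide +kernel

theorem loopZ78_1_ok : cert.loopsShift [0, 5, 0, 5, 0, 5] 78 (qpts.drop 25) loopZ78_1 = true := by decide +kernel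

theorem loopZ79_0_ok : cert.loopsShift [0, 5, 0, 5, 0, 5] 79 (qpts.take 25) loopZ79_0 = true := by decide +kernel

theorem loopZ79_1_ok : cert.loopsShift [0, 5, 0, 5, 0, 5] 79 (qpts.drop 25) loopZ79_1 = true := by decide +kernel

theorem loopZ80_0_ok : cert.loopsShift [0, 5, 0, 5, 0, 5] 80 (qpts.take 25) loopZ80_0 = true := by decide +kernel

theorem loopZ80_1_ok : cert.loopsShift [0, 5, 0, 5, 0, 5] 80 (qpts.drop 25) loopZ80_1 = true := by decide +kernel

theorem loopZ81_0_ok : cert.loopsShift [0, 5, 0, 5, 0, 5] 81 (qpts.take 25) loopZ81_0 = true := by decide +kernel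

theorem loopZ81_1_ok : cert.loopsShift [0, 5, 0, 5, 0, 5] 81 (qpts.drop 25) loopZ81_1 = true := by decide +kernel

theorem loopZ82_0_ok : cert.loopsShift [0, 5, 0, 5, 0, 5] 82 (qpts.take 25) loopZ82_0 = true := by decide +kernel

theorem loopZ82_1_ok : cert.loopsShift [0, 5, 0, 5, 0, 5] 82 (qpts.drop 25) loopZ82_1 = true := by decide +kernel

theorem loopZ83_0_ok : cert.loopsShift [0, 5, 0, 5, 0, 5] 83 (qpts.take 25) loopZ83_0 = true := by decide +kernel

theorem loopZ83_1_ok : cert.loopsShift [0, 5, 0, 5, 0, 5] 83 (qpts.drop 25) loopZ83_1 = true := by decide +kernel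

theorem loopZ84_0_ok : cert.loopsShift [0, 5, 0, 5, 0, 5] 84 (qpts.take 25) loopZ84_0 = true := by decide +kernel

theorem loopZ84_1_ok : cert.loopsShift [0, 5, 0, 5, 0, 5] 84 (qpts.drop 25) loopZ84_1 = true := by decide +kernel

theorem loopZ85_0_ok : cert.loopsShift [0, 5, 0, 5, 0, 5] 85 (qpts.take 25) loopZ85_0 = true := by decide +kernel

theorem loopZ85_1_ok : cert.loopsShift [0, 5, 0, 5, 0, 5] 85 (qpts.drop 25) loopZ85_1 = true := by decide +kernel

theorem loopZ86_0_ok : cert.loopsShift [0, 5, 0, 5, 0, 5] 86 (qpts.take 25) loopZ86_0 = true := by decide +kernel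

theorem loopZ86_1_ok : cert.loopsShift [0, 5, 0, 5, 0, 5] 86 (qpts.drop 25) loopZ86_1 = true := by decide +kernel

theorem loopZ87_0_ok : cert.loopsShift [0, 5, 0, 5, 0, 5] 87 (qpts.take 25) loopZ87_0 = true := by decide +kernel

theorem loopZ87_1_ok : cert.loopsShift [0, 5, 0, 5, 0, 5] 87 (qpts.drop 25) loopZ87_1 = true := by decide +kernel

theorem loopZ88_0_ok : cert.loopsShift [0, 5, 0, 5, 0, 5] 88 (qpts.take 25) loopZ88_0 = true := by decide +kernel

theorem loopZ88_1_ok : cert.loopsShift [0, 5, 0, 5, 0, 5] 88 (qpts.drop 25) loopZ88_1 = true := by decide +kernel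

theorem loopZ89_0_ok : cert.loopsShift [0, 5, 0, 5, 0, 5] 89 (qpts.take 25) loopZ89_0 = true := by decide +kernel

theorem loopZ89_1_ok : cert.loopsShift [0, 5, 0, 5, 0, 5] 89 (qpts.drop 25) loopZ89_1 = true := by decide +kernel

theorem loopZ90_0_ok : cert.loopsShift [0, 5, 0, 5, 0, 5] 90 (qpts.take 25) loopZ90_0 = true := by decide +kernel

theorem loopZ90_1_ok : cert.loopsShift [0, 5, 0, 5, 0, 5] 90 (qpts.drop 25) loopZ90_1 = true := by decide +kernel


end

end Data
end HN
end H77
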