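import Mathlib
import Cfsg.Agent.H77.HN.Data.Cert
import Cfsg.Agent.H77.HN.Data.LoopsZ7
import Cfsg.Agent.H77.HN.Data.Deds

/-!
Checks of the relator of order three (generated data).
-/

set_option autoImplicit false
set_option maxRecDepth 100000
set_option linter.all false

namespace H77
namespace HN
namespace Data

noncomputable section

theorem loopZ91_0_ok : cert.loopsShift [0, 5, 0, 5, 0, 5] 91 (qpts.take 25) loopZ91_0 = true := by decide +kernel

theorem loopZ91_1_ok : cert.loopsShift [0, 5, 0, 5, 0, 5] 91 (qpts.drop 25) loopZ91_1 = true := by decide +kernel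

theorem loopZ92_0_ok : cert.loopsShift [0, 5, 0, 5, 0, 5] 92 (qpts.take 25) loopZ92_0 = true := by decide +kernel

theorem loopZ92_1_ok : cert.loopsShift [0, 5, 0, 5, 0, 5] 92 (qpts.drop 25) loopZ92_1 = true := by decide +kernel

theorem loopZ93_0_ok : cert.loopsShift [0, 5, 0, 5, 0, 5] 93 (qpts.take 25) loopZ93_0 = true := by decide +kernel

theorem loopZ93_1_ok : cert.loopsShift [0, 5, 0, 5, 0, 5] 93 (qpts.drop 25) loopZ93_1 = true := by decide +kernel

theorem loopZ94_0_ok : cert.loopsShift [0, 5, 0, 5, 0, 5] 94 (qpts.take 25) loopZ94_0 = true := by decide +kernel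

theorem loopZ94_1_ok : cert.loopsShift [0, 5, 0, 5, 0, 5] 94 (qpts.drop 25) loopZ94_1 = true := by decide +kernel

theorem loopZ95_0_ok : cert.loopsShift [0, 5, 0, 5, 0, 5] 95 (qpts.take 25) loopZ95_0 = true := by decide +kernel

theorem loopZ95_1_ok : cert.loopsShift [0, 5, 0, 5, 0, 5] 95 (qpts.drop 25) loopZ95_1 = true := by decide +kernel

theorem loopZ96_0_ok : cert.loopsShift [0, 5, 0, 5, 0, 5] 96 (qpts.take 25) loopZ96_0 = true := by decide +kernel

theorem loopZ96_1_ok : cert.loopsShift [0, 5, 0, 5, 0, 5] 96 (qpts.drop 25) loopZ96_1 = true := by decide +kernel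

theorem loopZ97_0_ok : cert.loopsShift [0, 5, 0, 5, 0, 5] 97 (qpts.take 25) loopZ97_0 = true := by decide +kernel

theorem loopZ97_1_ok : cert.loopsShift [0, 5, 0, 5, 0, 5] 97 (qpts.drop 25) loopZ97_1 = true := by decide +kernel

theorem loopZ98_0_ok : cert.loopsShift [0, 5, 0, 5, 0, 5] 98 (qpts.take 25) loopZ98_0 = true := by decide +kernel

theorem loopZ98_1_ok : cert.loopsShift [0, 5, 0, 5, 0, 5] 98 (qpts.drop 25) loopZ98_1 = true := by decide +kernel

theorem loopZ99_0_ok : cert.loopsShift [0, 5, 0, 5, 0, 5] 99 (qpts.take 25) loopZ99_0 = true := by decide +kernel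

theorem loopZ99_1_ok : cert.loopsShift [0, 5, 0, 5, 0, 5] 99 (qpts.drop 25) loopZ99_1 = true := by decide +kernel

theorem loopZ100_0_ok : cert.loopsShift [0, 5, 0, 5, 0, 5] 100 (qpts.take 25) loopZ100_0 = true := by decide +kernel

theorem loopZ100_1_ok : cert.loopsShift [0, 5, 0, 5, 0, 5] 100 (qpts.drop 25) loopZ100_1 = true := by decide +kernel


end

end Data
end HN
end H77
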