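import Mathlib
import Cfsg.Agent.H77.HN.Data.Cert
import Cfsg.Agent.H77.HN.Data.Wit0

/-!
Checks of the Schreier elements (generated data).
-/

set_option autoImplicit false
set_option maxRecDepth 100000
set_option linter.all false

namespace H77
namespace HN
namespace Data

noncomputable section

theorem sch0_0 : cert.schreierOK 0 0 wit0_0 = true := by decide +kernel

theorem sch0_1 : cert.schreierOK 0 128 wit0_1 = true := by decide +kernel

theorem sch0_2 : cert.schreierOK 0 256 wit0_2 = true := by decide +kernel

theorem sch0_3 : cert.schreierOK 0 384 wit0_3 = true := by decide +kernel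

theorem sch0_4 : cert.schreierOK 0 512 wit0_4 = true := by decide +kernel

theorem sch0_5 : cert.schreierOK 0 640 wit0_5 = true := by decide +kernel

theorem sch0_6 : cert.schreierOK 0 768 wit0_6 = true := by decide +kernel

theorem sch0_7 : cert.schreierOK 0 896 wit0_7 = true := by decide +kernel

theorem sch0_8 : cert.schreierOK 0 1024 wit0_8 = true := by decide +kernel

theorem sch0_9 : cert.schreierOK 0 1152 wit0_9 = true := by decide +kernel

theorem sch0_10 : cert.schreierOK 0 1280 wit0_10 = true := by decide +kernel


end

end Data
end HN
end H77
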