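import Mathlib
import Cfsg.Agent.H77.HN.Data.Cert
import Cfsg.Agent.H77.HN.Data.Wit1

/-!
Checks of the Schreier elements (generated data).
-/

set_option autoImplicit false
set_option maxRecDepth 100000
set_option linter.all false

namespace H77
namespace HN
namespace Data

noncomputable section

theorem sch1_0 : cert.schreierOK 1 0 wit1_0 = true := by decide +kernel

theorem sch1_1 : cert.schreierOK 1 128 wit1_1 = true := by decide +kernel

theorem sch1_2 : cert.schreierOK 1 256 wit1_2 = true := by decide +kernel

theorem sch1_3 : cert.schreierOK 1 384 wit1_3 = true := by decide +kernel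

theorem sch1_4 : cert.schreierOK 1 512 wit1_4 = true := by decide +kernel

theorem sch1_5 : cert.schreierOK 1 640 wit1_5 = true := by decide +kernel

theorem sch1_6 : cert.schreierOK 1 768 wit1_6 = true := by decide +kernel

theorem sch1_7 : cert.schreierOK 1 896 wit1_7 = true := by decide +kernel

theorem sch1_8 : cert.schreierOK 1 1024 wit1_8 = true := by decide +kernel

theorem sch1_9 : cert.schreierOK 1 1152 wit1_9 = true := by decide +kernel

theorem sch1_10 : cert.schreierOK 1 1280 wit1_10 = true := by decide +kernel


end

end Data
end HN
end H77
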