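import Mathlib
import Cfsg.Agent.H77.HN.Data.Cert
import Cfsg.Agent.H77.HN.Data.Wit2

/-!
Checks of the Schreier elements (generated data).
-/

set_option autoImplicit false
set_option maxRecDepth 100000
set_option linter.all false

namespace H77
namespace HN
namespace Data

noncomputable section

theorem sch2_0 : cert.schreierOK 2 0 wit2_0 = true := by decide +kernel

theorem sch2_1 : cert.schreierOK 2 128 wit2_1 = true := by decide +kernel

theorem sch2_2 : cert.schreierOK 2 256 wit2_2 = true := by decide +kernel

theorem sch2_3 : cert.schreierOK 2 384 wit2_3 = true := by decide +kernel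

theorem sch2_4 : cert.schreierOK 2 512 wit2_4 = true := by decide +kernel

theorem sch2_5 : cert.schreierOK 2 640 wit2_5 = true := by decide +kernel

theorem sch2_6 : cert.schreierOK 2 768 wit2_6 = true := by decide +kernel

theorem sch2_7 : cert.schreierOK 2 896 wit2_7 = true := by decide +kernel

theorem sch2_8 : cert.schreierOK 2 1024 wit2_8 = true := by decide +kernel

theorem sch2_9 : cert.schreierOK 2 1152 wit2_9 = true := by decide +kernel

theorem sch2_10 : cert.schreierOK 2 1280 wit2_10 = true := by decide +kernel


end

end Data
end HN
end H77
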