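import Mathlib
import Cfsg.Agent.H77.HN.Data.Cert
import Cfsg.Agent.H77.HN.Data.Wit3

/-!
Checks of the Schreier elements (generated data).
-/

set_option autoImplicit false
set_option maxRecDepth 100000
set_option linter.all false

namespace H77
namespace HN
namespace Data

noncomputable section

theorem sch3_0 : cert.schreierOK 3 0 wit3_0 = true := by decide +kernel

theorem sch3_1 : cert.schreierOK 3 128 wit3_1 = true := by decide +kernel

theorem sch3_2 : cert.schreierOK 3 256 wit3_2 = true := by decide +kernel

theorem sch3_3 : cert.schreierOK 3 384 wit3_3 = true := by decide +kernel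

theorem sch3_4 : cert.schreierOK 3 512 wit3_4 = true := by decide +kernel

theorem sch3_5 : cert.schreierOK 3 640 wit3_5 = true := by decide +kernel

theorem sch3_6 : cert.schreierOK 3 768 wit3_6 = true := by decide +kernel

theorem sch3_7 : cert.schreierOK 3 896 wit3_7 = true := by decide +kernel

theorem sch3_8 : cert.schreierOK 3 1024 wit3_8 = true := by decide +kernel

theorem sch3_9 : cert.schreierOK 3 1152 wit3_9 = true := by decide +kernel

theorem sch3_10 : cert.schreierOK 3 1280 wit3_10 = true := by decide +kernel


end

end Data
end HN
end H77
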