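import Mathlib
import Cfsg.Agent.H77.HN.Data.Cert
import Cfsg.Agent.H77.HN.Data.Wit4

/-!
Checks of the Schreier elements (generated data).
-/

set_option autoImplicit false
set_option maxRecDepth 100000
set_option linter.all false

namespace H77
namespace HN
namespace Data

noncomputable section

theorem sch4_0 : cert.schreierOK 4 0 wit4_0 = true := by decide +kernel

theorem sch4_1 : cert.schreierOK 4 128 wit4_1 = true := by decide +kernel

theorem sch4_2 : cert.schreierOK 4 256 wit4_2 = true := by decide +kernel

theorem sch4_3 : cert.schreierOK 4 384 wit4_3 = true := by decide +kernel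

theorem sch4_4 : cert.schreierOK 4 512 wit4_4 = true := by decide +kernel

theorem sch4_5 : cert.schreierOK 4 640 wit4_5 = true := by decide +kernel

theorem sch4_6 : cert.schreierOK 4 768 wit4_6 = true := by decide +kernel

theorem sch4_7 : cert.schreierOK 4 896 wit4_7 = true := by decide +kernel

theorem sch4_8 : cert.schreierOK 4 1024 wit4_8 = true := by decide +kernel

theorem sch4_9 : cert.schreierOK 4 1152 wit4_9 = true := by decide +kernel

theorem sch4_10 : cert.schreierOK 4 1280 wit4_10 = true := by decide +kernel


end

end Data
end HN
end H77
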