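import Mathlib
import Cfsg.Agent.H77.HN.Data.Cert
import Cfsg.Agent.H77.HN.Data.Wit5

/-!
Checks of the Schreier elements (generated data).
-/

set_option autoImplicit false
set_option maxRecDepth 100000
set_option linter.all false

namespace H77
namespace HN
namespace Data

noncomputable section

theorem sch5_0 : cert.schreierOK 5 0 wit5_0 = true := by decide +kernel

theorem sch5_1 : cert.schreierOK 5 128 wit5_1 = true := by decide +kernel

theorem sch5_2 : cert.schreierOK 5 256 wit5_2 = true := by decide +kernel

theorem sch5_3 : cert.schreierOK 5 384 wit5_3 = true := by decide +kernel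

theorem sch5_4 : cert.schreierOK 5 512 wit5_4 = true := by decide +kernel

theorem sch5_5 : cert.schreierOK 5 640 wit5_5 = true := by decide +kernel

theorem sch5_6 : cert.schreierOK 5 768 wit5_6 = true := by decide +kernel

theorem sch5_7 : cert.schreierOK 5 896 wit5_7 = true := by decide +kernel

theorem sch5_8 : cert.schreierOK 5 1024 wit5_8 = true := by decide +kernel

theorem sch5_9 : cert.schreierOK 5 1152 wit5_9 = true := by decide +kernel

theorem sch5_10 : cert.schreierOK 5 1280 wit5_10 = true := by decide +kernel


end

end Data
end HN
end H77
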