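import Mathlib
import Cfsg.Agent.H77.HN.Data.Cert
import Cfsg.Agent.H77.HN.Data.Wit7

/-!
Checks of the Schreier elements (generated data).
-/

set_option autoImplicit false
set_option maxRecDepth 100000
set_option linter.all false

namespace H77
namespace HN
namespace Data

noncomputable section

theorem sch7_0 : cert.schreierOK 7 0 wit7_0 = true := by decide +kernel

theorem sch7_1 : cert.schreierOK 7 128 wit7_1 = true := by decide +kernel

theorem sch7_2 : cert.schreierOK 7 256 wit7_2 = true := by decide +kernel

theorem sch7_3 : cert.schreierOK 7 384 wit7_3 = true := by decide +kernel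

theorem sch7_4 : cert.schreierOK 7 512 wit7_4 = true := by decide +kernel

theorem sch7_5 : cert.schreierOK 7 640 wit7_5 = true := by decide +kernel

theorem sch7_6 : cert.schreierOK 7 768 wit7_6 = true := by decide +kernel

theorem sch7_7 : cert.schreierOK 7 896 wit7_7 = true := by decide +kernel

theorem sch7_8 : cert.schreierOK 7 1024 wit7_8 = true := by decide +kernel

theorem sch7_9 : cert.schreierOK 7 1152 wit7_9 = true := by decide +kernel

theorem sch7_10 : cert.schreierOK 7 1280 wit7_10 = true := by decide +kernel


end

end Data
end HN
end H77
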