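import Mathlib
import Cfsg.Agent.H77.HN.Data.Cert
import Cfsg.Agent.H77.HN.Data.Wit8

/-!
Checks of the Schreier elements (generated data).
-/

set_option autoImplicit false
set_option maxRecDepth 100000
set_option linter.all false

namespace H77
namespace HN
namespace Data

noncomputable section

theorem sch8_0 : cert.schreierOK 8 0 wit8_0 = true := by decide +kernel

theorem sch8_1 : cert.schreierOK 8 128 wit8_1 = true := by decide +kernel

theorem sch8_2 : cert.schreierOK 8 256 wit8_2 = true := by decide +kernel

theorem sch8_3 : cert.schreierOK 8 384 wit8_3 = true := by decide +kernel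

theorem sch8_4 : cert.schreierOK 8 512 wit8_4 = true := by decide +kernel

theorem sch8_5 : cert.schreierOK 8 640 wit8_5 = true := by decide +kernel

theorem sch8_6 : cert.schreierOK 8 768 wit8_6 = true := by decide +kernel

theorem sch8_7 : cert.schreierOK 8 896 wit8_7 = true := by decide +kernel

theorem sch8_8 : cert.schreierOK 8 1024 wit8_8 = true := by decide +kernel

theorem sch8_9 : cert.schreierOK 8 1152 wit8_9 = true := by decide +kernel

theorem sch8_10 : cert.schreierOK 8 1280 wit8_10 = true := by decide +kernel


end

end Data
end HN
end H77
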