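import Mathlib
import Cfsg.Agent.H77.HN.Data.Cert

/-!
Checks of the trees (generated data).
-/

set_option autoImplicit false
set_option maxRecDepth 100000
set_option linter.all false

namespace H77
namespace HN
namespace Data

noncomputable section

theorem tree0_0 : allBelow (cert.treeEntry 0) 0 128 = true := by decide +kernel

theorem tree0_1 : allBelow (cert.treeEntry 0) 128 128 = true := by decide +kernel

theorem tree0_2 : allBelow (cert.treeEntry 0) 256 128 = true := by decide +kernel

theorem tree0_3 : allBelow (cert.treeEntry 0) 384 128 = true := by decide +kernel

theorem tree0_4 : allBelow (cert.treeEntry 0) 512 128 = true := by decide +kernel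

theorem tree0_5 : allBelow (cert.treeEntry 0) 640 128 = true := by decide +kernel

theorem tree0_6 : allBelow (cert.treeEntry 0) 768 128 = true := by decide +kernel

theorem tree0_7 : allBelow (cert.treeEntry 0) 896 128 = true := by decide +kernel

theorem tree0_8 : allBelow (cert.treeEntry 0) 1024 128 = true := by decide +kernel

theorem tree0_9 : allBelow (cert.treeEntry 0) 1152 128 = true := by decide +kernel

theorem tree0_10 : allBelow (cert.treeEntry 0) 1280 128 = true := by decide +kernel

theorem tree1_0 : allBelow (cert.treeEntry 1) 0 128 = true := by decide +kernel

theorem tree1_1 : allBelow (cert.treeEntry 1) 128 128 = true := by decide +kernel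

theorem tree1_2 : allBelow (cert.treeEntry 1) 256 128 = true := by decide +kernel

theorem tree1_3 : allBelow (cert.treeEntry 1) 384 128 = true := by decide +kernel

theorem tree1_4 : allBelow (cert.treeEntry 1) 512 128 = true := by decide +kernel

theorem tree1_5 : allBelow (cert.treeEntry 1) 640 128 = true := by decide +kernel

theorem tree1_6 : allBelow (cert.treeEntry 1) 768 128 = true := by decide +kernel

theorem tree1_7 : allBelow (cert.treeEntry 1) 896 128 = true := by decide +kernel

theorem tree1_8 : allBelow (cert.treeEntry 1) 1024 128 = true := by decide +kernel

theorem tree1_9 : allBelow (cert.treeEntry 1) 1152 128 = true := by decide +kernel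

theorem tree1_10 : allBelow (cert.treeEntry 1) 1280 128 = true := by decide +kernel

theorem tree2_0 : allBelow (cert.treeEntry 2) 0 128 = true := by decide +kernel

theorem tree2_1 : allBelow (cert.treeEntry 2) 128 128 = true := by decide +kernel

theorem tree2_2 : allBelow (cert.treeEntry 2) 256 128 = true := by decide +kernel

theorem tree2_3 : allBelow (cert.treeEntry 2) 384 128 = true := by decide +kernel

theorem tree2_4 : allBelow (cert.treeEntry 2) 512 128 = true := by decide +kernel

theorem tree2_5 : allBelow (cert.treeEntry 2) 640 128 = true := by decide +kernel

theorem tree2_6 : allBelow (cert.treeEntry 2) 768 128 = true := by decide +kernel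

theorem tree2_7 : allBelow (cert.treeEntry 2) 896 128 = true := by decide +kernel

theorem tree2_8 : allBelow (cert.treeEntry 2) 1024 128 = true := by decide +kernel

theorem tree2_9 : allBelow (cert.treeEntry 2) 1152 128 = true := by decide +kernel

theorem tree2_10 : allBelow (cert.treeEntry 2) 1280 128 = true := by decide +kernel

theorem tree3_0 : allBelow (cert.treeEntry 3) 0 128 = true := by decide +kernel

theorem tree3_1 : allBelow (cert.treeEntry 3) 128 128 = true := by decide +kernel

theorem tree3_2 : allBelow (cert.treeEntry 3) 256 128 = true := by decide +kernel

theorem tree3_3 : allBelow (cert.treeEntry 3) 384 128 = true := by decide +kernel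

theorem tree3_4 : allBelow (cert.treeEntry 3) 512 128 = true := by decide +kernel

theorem tree3_5 : allBelow (cert.treeEntry 3) 640 128 = true := by decide +kernel

theorem tree3_6 : allBelow (cert.treeEntry 3) 768 128 = true := by decide +kernel

theorem tree3_7 : allBelow (cert.treeEntry 3) 896 128 = true := by decide +kernel

theorem tree3_8 : allBelow (cert.treeEntry 3) 1024 128 = true := by decide +kernel

theorem tree3_9 : allBelow (cert.treeEntry 3) 1152 128 = true := by decide +kernel

theorem tree3_10 : allBelow (cert.treeEntry 3) 1280 128 = true := by decide +kernel

theorem tree4_0 : allBelow (cert.treeEntry 4) 0 128 = true := by decide +kernel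

theorem tree4_1 : allBelow (cert.treeEntry 4) 128 128 = true := by decide +kernel

theorem tree4_2 : allBelow (cert.treeEntry 4) 256 128 = true := by decide +kernel

theorem tree4_3 : allBelow (cert.treeEntry 4) 384 128 = true := by decide +kernel

theorem tree4_4 : allBelow (cert.treeEntry 4) 512 128 = true := by decide +kernel

theorem tree4_5 : allBelow (cert.treeEntry 4) 640 128 = true := by decide +kernel

theorem tree4_6 : allBelow (cert.treeEntry 4) 768 128 = true := by decide +kernel

theorem tree4_7 : allBelow (cert.treeEntry 4) 896 128 = true := by decide +kernel

theorem tree4_8 : allBelow (cert.treeEntry 4) 1024 128 = true := by decide +kernel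

theorem tree4_9 : allBelow (cert.treeEntry 4) 1152 128 = true := by decide +kernel

theorem tree4_10 : allBelow (cert.treeEntry 4) 1280 128 = true := by decide +kernel

theorem tree5_0 : allBelow (cert.treeEntry 5) 0 128 = true := by decide +kernel

theorem tree5_1 : allBelow (cert.treeEntry 5) 128 128 = true := by decide +kernel

theorem tree5_2 : allBelow (cert.treeEntry 5) 256 128 = true := by decide +kernel

theorem tree5_3 : allBelow (cert.treeEntry 5) 384 128 = true := by decide +kernel

theorem tree5_4 : allBelow (cert.treeEntry 5) 512 128 = true := by decide +kernel

theorem tree5_5 : allBelow (cert.treeEntry 5) 640 128 = true := by decide +kernel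

theorem tree5_6 : allBelow (cert.treeEntry 5) 768 128 = true := by decide +kernel

theorem tree5_7 : allBelow (cert.treeEntry 5) 896 128 = true := by decide +kernel

theorem tree5_8 : allBelow (cert.treeEntry 5) 1024 128 = true := by decide +kernel

theorem tree5_9 : allBelow (cert.treeEntry 5) 1152 128 = true := by decide +kernel

theorem tree5_10 : allBelow (cert.treeEntry 5) 1280 128 = true := by decide +kernel

theorem tree6_0 : allBelow (cert.treeEntry 6) 0 128 = true := by decide +kernel

theorem tree6_1 : allBelow (cert.treeEntry 6) 128 128 = true := by decide +kernel

theorem tree6_2 : allBelow (cert.treeEntry 6) 256 128 = true := by decide +kernel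

theorem tree6_3 : allBelow (cert.treeEntry 6) 384 128 = true := by decide +kernel

theorem tree6_4 : allBelow (cert.treeEntry 6) 512 128 = true := by decide +kernel

theorem tree6_5 : allBelow (cert.treeEntry 6) 640 128 = true := by decide +kernel

theorem tree6_6 : allBelow (cert.treeEntry 6) 768 128 = true := by decide +kernel

theorem tree6_7 : allBelow (cert.treeEntry 6) 896 128 = true := by decide +kernel

theorem tree6_8 : allBelow (cert.treeEntry 6) 1024 128 = true := by decide +kernel

theorem tree6_9 : allBelow (cert.treeEntry 6) 1152 128 = true := by decide +kernel

theorem tree6_10 : allBelow (cert.treeEntry 6) 1280 128 = true := by decide +kernel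

theorem tree7_0 : allBelow (cert.treeEntry 7) 0 128 = true := by decide +kernel

theorem tree7_1 : allBelow (cert.treeEntry 7) 128 128 = true := by decide +kernel

theorem tree7_2 : allBelow (cert.treeEntry 7) 256 128 = true := by decide +kernel

theorem tree7_3 : allBelow (cert.treeEntry 7) 384 128 = true := by decide +kernel

theorem tree7_4 : allBelow (cert.treeEntry 7) 512 128 = true := by decide +kernel

theorem tree7_5 : allBelow (cert.treeEntry 7) 640 128 = true := by decide +kernel

theorem tree7_6 : allBelow (cert.treeEntry 7) 768 128 = true := by decide +kernel

theorem tree7_7 : allBelow (cert.treeEntry 7) 896 128 = true := by decide +kernel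

theorem tree7_8 : allBelow (cert.treeEntry 7) 1024 128 = true := by decide +kernel

theorem tree7_9 : allBelow (cert.treeEntry 7) 1152 128 = true := by decide +kernel

theorem tree7_10 : allBelow (cert.treeEntry 7) 1280 128 = true := by decide +kernel

theorem tree8_0 : allBelow (cert.treeEntry 8) 0 128 = true := by decide +kernel

theorem tree8_1 : allBelow (cert.treeEntry 8) 128 128 = true := by decide +kernel

theorem tree8_2 : allBelow (cert.treeEntry 8) 256 128 = true := by decide +kernel

theorem tree8_3 : allBelow (cert.treeEntry 8) 384 128 = true := by decide +kernel

theorem tree8_4 : allBelow (cert.treeEntry 8) 512 128 = true := by decide +kernel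

theorem tree8_5 : allBelow (cert.treeEntry 8) 640 128 = true := by decide +kernel

theorem tree8_6 : allBelow (cert.treeEntry 8) 768 128 = true := by decide +kernel

theorem tree8_7 : allBelow (cert.treeEntry 8) 896 128 = true := by decide +kernel

theorem tree8_8 : allBelow (cert.treeEntry 8) 1024 128 = true := by decide +kernel

theorem tree8_9 : allBelow (cert.treeEntry 8) 1152 128 = true := by decide +kernel

theorem tree8_10 : allBelow (cert.treeEntry 8) 1280 128 = true := by decide +kernel

theorem roots : cert.rootsOK = true := by decide +kernel

theorem conj : cert.conjOK = true := by decide +kernel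

theorem ends : cert.endsOK = true := by decide +kernel


end

end Data
end HN
end H77
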