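import Mathlib
import Cfsg.Agent.H77.HN.Data.ChkLetters0
import Cfsg.Agent.H77.HN.Data.ChkLetters1
import Cfsg.Agent.H77.HN.Data.ChkLetters2
import Cfsg.Agent.H77.HN.Data.ChkLetters3
import Cfsg.Agent.H77.HN.Data.ChkTree
import Cfsg.Agent.H77.HN.Data.ChkSch0
import Cfsg.Agent.H77.HN.Data.ChkSch1
import Cfsg.Agent.H77.HN.Data.ChkSch2
import Cfsg.Agent.H77.HN.Data.ChkSch3
import Cfsg.Agent.H77.HN.Data.ChkSch4
import Cfsg.Agent.H77.HN.Data.ChkSch5
import Cfsg.Agent.H77.HN.Data.ChkSch6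
import Cfsg.Agent.H77.HN.Data.ChkSch7
import Cfsg.Agent.H77.HN.Data.ChkSch8
import Cfsg.Agent.H77.HN.Data.ChkLoops
import Cfsg.Agent.H77.HN.Data.ChkLoopsZ0
import Cfsg.Agent.H77.HN.Data.ChkLoopsZ1
import Cfsg.Agent.H77.HN.Data.ChkLoopsZ2
import Cfsg.Agent.H77.HN.Data.ChkLoopsZ3
import Cfsg.Agent.H77.HN.Data.ChkLoopsZ4
import Cfsg.Agent.H77.HN.Data.ChkLoopsZ5
import Cfsg.Agent.H77.HN.Data.ChkLoopsZ6
import Cfsg.Agent.H77.HN.Data.ChkLoopsZ7
import Cfsg.Agent.H77.HN.Data.ChkDeds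
import Cfsg.Agent.H77.HN.Checks2

/-!
The checks, collected (generated data).
-/

set_option autoImplicit false
set_option maxRecDepth 100000
set_option linter.all false

namespace H77
namespace HN
namespace Data

noncomputable section

theorem letters_all : ∀ j < 135,
    letterOK T T (wordOf (7 + 2 * j)) (7 + 2 * j) 1408 = true ∧ undoOK T (7 + 2 * j + 1) (7 + 2 * j) 1408 = true
  | 0, _ => ⟨letter7, undo7⟩
  | 1, _ => ⟨letter9, undo9⟩
  | 2, _ => ⟨letter11, undo11⟩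
  | 3, _ => ⟨letter13, undo13⟩
  | 4, _ => ⟨letter15, undo15⟩
  | 5, _ => ⟨letter17, undo17⟩
  | 6, _ => ⟨letter19, undo19⟩
  | 7, _ => ⟨letter21, undo21⟩
  | 8, _ => ⟨letter23, undo23⟩
  | 9, _ => ⟨letter25, undo25⟩
  | 10, _ => ⟨letter27, undo27⟩
  | 11, _ => ⟨letter29, undo29⟩
  | 12, _ => ⟨letter31, undo31⟩
  | 13, _ => ⟨letter33, undo33⟩
  | 14, _ => ⟨letter35, undo35⟩
  | 15, _ => ⟨letter37, undo37⟩
  | 16, _ => ⟨letter39, undo39⟩
  | 17, _ => ⟨letter41, undo41⟩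
  | 18, _ => ⟨letter43, undo43⟩
  | 19, _ => ⟨letter45, undo45⟩
  | 20, _ => ⟨letter47, undo47⟩
  | 21, _ => ⟨letter49, undo49⟩
  | 22, _ => ⟨letter51, undo51⟩
  | 23, _ => ⟨letter53, undo53⟩
  | 24, _ => ⟨letter55, undo55⟩
  | 25, _ => ⟨letter57, undo57⟩
  | 26, _ => ⟨letter59, undo59⟩
  | 27, _ => ⟨letter61, undo61⟩
  | 28, _ => ⟨letter63, undo63⟩
  | 29, _ => ⟨letter65, undo65⟩
  | 30, _ => ⟨letter67, undo67⟩
  | 31, _ => ⟨letter69, undo69⟩
  | 32, _ => ⟨letter71, undo71⟩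
  | 33, _ => ⟨letter73, undo73⟩
  | 34, _ => ⟨letter75, undo75⟩
  | 35, _ => ⟨letter77, undo77⟩
  | 36, _ => ⟨letter79, undo79⟩
  | 37, _ => ⟨letter81, undo81⟩
  | 38, _ => ⟨letter83, undo83⟩
  | 39, _ => ⟨letter85, undo85⟩
  | 40, _ => ⟨letter87, undo87⟩
  | 41, _ => ⟨letter89, undo89⟩
  | 42, _ => ⟨letter91, undo91⟩
  | 43, _ => ⟨letter93, undo93⟩
  | 44, _ => ⟨letter95, undo95⟩
  | 45, _ => ⟨letter97, undo97⟩
  | 46, _ => ⟨letter99, undo99⟩
  | 47, _ => ⟨letter101, undo101⟩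
  | 48, _ => ⟨letter103, undo103⟩
  | 49, _ => ⟨letter105, undo105⟩
  | 50, _ => ⟨letter107, undo107⟩
  | 51, _ => ⟨letter109, undo109⟩
  | 52, _ => ⟨letter111, undo111⟩
  | 53, _ => ⟨letter113, undo113⟩
  | 54, _ => ⟨letter115, undo115⟩
  | 55, _ => ⟨letter117, undo117⟩
  | 56, _ => ⟨letter119, undo119⟩
  | 57, _ => ⟨letter121, undo121⟩
  | 58, _ => ⟨letter123, undo123⟩
  | 59, _ => ⟨letter125, undo125⟩
  | 60, _ => ⟨letter127, undo127⟩
  | 61, _ => ⟨letter129, undo129⟩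
  | 62, _ => ⟨letter131, undo131⟩
  | 63, _ => ⟨letter133, undo133⟩
  | 64, _ => ⟨letter135, undo135⟩
  | 65, _ => ⟨letter137, undo137⟩
  | 66, _ => ⟨letter139, undo139⟩
  | 67, _ => ⟨letter141, undo141⟩
  | 68, _ => ⟨letter143, undo143⟩
  | 69, _ => ⟨letter145, undo145⟩
  | 70, _ => ⟨letter147, undo147⟩
  | 71, _ => ⟨letter149, undo149⟩
  | 72, _ => ⟨letter151, undo151⟩
  | 73, _ => ⟨letter153, undo153⟩
  | 74, _ => ⟨letter155, undo155⟩
  | 75, _ => ⟨letter157, undo157⟩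
  | 76, _ => ⟨letter159, undo159⟩
  | 77, _ => ⟨letter161, undo161⟩
  | 78, _ => ⟨letter163, undo163⟩
  | 79, _ => ⟨letter165, undo165⟩
  | 80, _ => ⟨letter167, undo167⟩
  | 81, _ => ⟨letter169, undo169⟩
  | 82, _ => ⟨letter171, undo171⟩
  | 83, _ => ⟨letter173, undo173⟩
  | 84, _ => ⟨letter175, undo175⟩
  | 85, _ => ⟨letter177, undo177⟩
  | 86, _ => ⟨letter179, undo179⟩
  | 87, _ => ⟨letter181, undo181⟩
  | 88, _ => ⟨letter183, undo183⟩
  | 89, _ => ⟨letter185, undo185⟩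
  | 90, _ => ⟨letter187, undo187⟩
  | 91, _ => ⟨letter189, undo189⟩
  | 92, _ => ⟨letter191, undo191⟩
  | 93, _ => ⟨letter193, undo193⟩
  | 94, _ => ⟨letter195, undo195⟩
  | 95, _ => ⟨letter197, undo197⟩
  | 96, _ => ⟨letter199, undo199⟩
  | 97, _ => ⟨letter201, undo201⟩
  | 98, _ => ⟨letter203, undo203⟩
  | 99, _ => ⟨letter205, undo205⟩
  | 100, _ => ⟨letter207, undo207⟩
  | 101, _ => ⟨letter209, undo209⟩
  | 102, _ => ⟨letter211, undo211⟩
  | 103, _ => ⟨letter213, undo213⟩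
  | 104, _ => ⟨letter215, undo215⟩
  | 105, _ => ⟨letter217, undo217⟩
  | 106, _ => ⟨letter219, undo219⟩
  | 107, _ => ⟨letter221, undo221⟩
  | 108, _ => ⟨letter223, undo223⟩
  | 109, _ => ⟨letter225, undo225⟩
  | 110, _ => ⟨letter227, undo227⟩
  | 111, _ => ⟨letter229, undo229⟩
  | 112, _ => ⟨letter231, undo231⟩
  | 113, _ => ⟨letter233, undo233⟩
  | 114, _ => ⟨letter235, undo235⟩
  | 115, _ => ⟨letter237, undo237⟩
  | 116, _ => ⟨letter239, undo239⟩
  | 117, _ => ⟨letter241, undo241⟩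
  | 118, _ => ⟨letter243, undo243⟩
  | 119, _ => ⟨letter245, undo245⟩
  | 120, _ => ⟨letter247, undo247⟩
  | 121, _ => ⟨letter249, undo249⟩
  | 122, _ => ⟨letter251, undo251⟩
  | 123, _ => ⟨letter253, undo253⟩
  | 124, _ => ⟨letter255, undo255⟩
  | 125, _ => ⟨letter257, undo257⟩
  | 126, _ => ⟨letter259, undo259⟩
  | 127, _ => ⟨letter261, undo261⟩
  | 128, _ => ⟨letter263, undo263⟩
  | 129, _ => ⟨letter265, undo265⟩
  | 130, _ => ⟨letter267, undo267⟩
  | 131, _ => ⟨letter269, undo269⟩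
  | 132, _ => ⟨letter271, undo271⟩
  | 133, _ => ⟨letter273, undo273⟩
  | 134, _ => ⟨letter275, undo275⟩
  | j + 135, h => absurd h (Nat.not_lt.mpr (Nat.le_add_left 135 j))

theorem trees_all : ∀ i < 9, allBelow (cert.treeEntry i) 0 1408 = true
  | 0, _ => (allBelow_glue (allBelow_glue (allBelow_glue (allBelow_glue (allBelow_glue (allBelow_glue (allBelow_glue (allBelow_glue (allBelow_glue (allBelow_glue tree0_0 tree0_1) tree0_2) tree0_3) tree0_4) tree0_5) tree0_6) tree0_7) tree0_8) tree0_9) tree0_10)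
  | 1, _ => (allBelow_glue (allBelow_glue (allBelow_glue (allBelow_glue (allBelow_glue (allBelow_glue (allBelow_glue (allBelow_glue (allBelow_glue (allBelow_glue tree1_0 tree1_1) tree1_2) tree1_3) tree1_4) tree1_5) tree1_6) tree1_7) tree1_8) tree1_9) tree1_10)
  | 2, _ => (allBelow_glue (allBelow_glue (allBelow_glue (allBelow_glue (allBelow_glue (allBelow_glue (allBelow_glue (allBelow_glue (allBelow_glue (allBelow_glue tree2_0 tree2_1) tree2_2) tree2_3) tree2_4) tree2_5) tree2_6) tree2_7) tree2_8) tree2_9) tree2_10)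
  | 3, _ => (allBelow_glue (allBelow_glue (allBelow_glue (allBelow_glue (allBelow_glue (allBelow_glue (allBelow_glue (allBelow_glue (allBelow_glue (allBelow_glue tree3_0 tree3_1) tree3_2) tree3_3) tree3_4) tree3_5) tree3_6) tree3_7) tree3_8) tree3_9) tree3_10)
  | 4, _ => (allBelow_glue (allBelow_glue (allBelow_glue (allBelow_glue (allBelow_glue (allBelow_glue (allBelow_glue (allBelow_glue (allBelow_glue (allBelow_glue tree4_0 tree4_1) tree4_2) tree4_3) tree4_4) tree4_5) tree4_6) tree4_7) tree4_8) tree4_9) tree4_10)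
  | 5, _ => (allBelow_glue (allBelow_glue (allBelow_glue (allBelow_glue (allBelow_glue (allBelow_glue (allBelow_glue (allBelow_glue (allBelow_glue (allBelow_glue tree5_0 tree5_1) tree5_2) tree5_3) tree5_4) tree5_5) tree5_6) tree5_7) tree5_8) tree5_9) tree5_10)
  | 6, _ => (allBelow_glue (allBelow_glue (allBelow_glue (allBelow_glue (allBelow_glue (allBelow_glue (allBelow_glue (allBelow_glue (allBelow_glue (allBelow_glue tree6_0 tree6_1) tree6_2) tree6_3) tree6_4) tree6_5) tree6_6) tree6_7) tree6_8) tree6_9) tree6_10)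
  | 7, _ => (allBelow_glue (allBelow_glue (allBelow_glue (allBelow_glue (allBelow_glue (allBelow_glue (allBelow_glue (allBelow_glue (allBelow_glue (allBelow_glue tree7_0 tree7_1) tree7_2) tree7_3) tree7_4) tree7_5) tree7_6) tree7_7) tree7_8) tree7_9) tree7_10)
  | 8, _ => (allBelow_glue (allBelow_glue (allBelow_glue (allBelow_glue (allBelow_glue (allBelow_glue (allBelow_glue (allBelow_glue (allBelow_glue (allBelow_glue tree8_0 tree8_1) tree8_2) tree8_3) tree8_4) tree8_5) tree8_6) tree8_7) tree8_8) tree8_9) tree8_10)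
  | i + 9, h => absurd h (Nat.not_lt.mpr (Nat.le_add_left 9 i))

theorem sch0_all : ∀ c < 1408, ∀ l ∈ cert.sg 0, ∃ s, cert.schreierOne 0 c l s = true := by
  intro c hc l hl
  by_cases h0 : c < 128
  · obtain ⟨s, hs⟩ := cert.schreierOK_spec sch0_0 (c - 0) (by simp only [wit0_0, List.length_cons, List.length_nil]; omega) l hl
    exact ⟨s, by rwa [show 0 + (c - 0) = c by omega] at hs⟩
  by_cases h1 : c < 256
  · obtain ⟨s, hs⟩ := cert.schreierOK_spec sch0_1 (c - 128) (by simp only [wit0_1, List.length_cons, List.length_nil]; omega) l hl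
    exact ⟨s, by rwa [show 128 + (c - 128) = c by omega] at hs⟩
  by_cases h2 : c < 384
  · obtain ⟨s, hs⟩ := cert.schreierOK_spec sch0_2 (c - 256) (by simp only [wit0_2, List.length_cons, List.length_nil]; omega) l hl
    exact ⟨s, by rwa [show 256 + (c - 256) = c by omega] at hs⟩
  by_cases h3 : c < 512
  · obtain ⟨s, hs⟩ := cert.schreierOK_spec sch0_3 (c - 384) (by simp only [wit0_3, List.length_cons, List.length_nil]; omega) l hl
    exact ⟨s, by rwa [show 384 + (c - 384) = c by omega] at hs⟩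
  by_cases h4 : c < 640
  · obtain ⟨s, hs⟩ := cert.schreierOK_spec sch0_4 (c - 512) (by simp only [wit0_4, List.length_cons, List.length_nil]; omega) l hl
    exact ⟨s, by rwa [show 512 + (c - 512) = c by omega] at hs⟩
  by_cases h5 : c < 768
  · obtain ⟨s, hs⟩ := cert.schreierOK_spec sch0_5 (c - 640) (by simp only [wit0_5, List.length_cons, List.length_nil]; omega) l hl
    exact ⟨s, by rwa [show 640 + (c - 640) = c by omega] at hs⟩
  by_cases h6 : c < 896
  · obtain ⟨s, hs⟩ := cert.schreierOK_spec sch0_6 (c - 768) (by simp only [wit0_6, List.length_cons, List.length_nil]; omega) l hl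
    exact ⟨s, by rwa [show 768 + (c - 768) = c by omega] at hs⟩
  by_cases h7 : c < 1024
  · obtain ⟨s, hs⟩ := cert.schreierOK_spec sch0_7 (c - 896) (by simp only [wit0_7, List.length_cons, List.length_nil]; omega) l hl
    exact ⟨s, by rwa [show 896 + (c - 896) = c by omega] at hs⟩
  by_cases h8 : c < 1152
  · obtain ⟨s, hs⟩ := cert.schreierOK_spec sch0_8 (c - 1024) (by simp only [wit0_8, List.length_cons, List.length_nil]; omega) l hl
    exact ⟨s, by rwa [show 1024 + (c - 1024) = c by omega] at hs⟩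
  by_cases h9 : c < 1280
  · obtain ⟨s, hs⟩ := cert.schreierOK_spec sch0_9 (c - 1152) (by simp only [wit0_9, List.length_cons, List.length_nil]; omega) l hl
    exact ⟨s, by rwa [show 1152 + (c - 1152) = c by omega] at hs⟩
  by_cases h10 : c < 1408
  · obtain ⟨s, hs⟩ := cert.schreierOK_spec sch0_10 (c - 1280) (by simp only [wit0_10, List.length_cons, List.length_nil]; omega) l hl
    exact ⟨s, by rwa [show 1280 + (c - 1280) = c by omega] at hs⟩
  omega

theorem sch1_all : ∀ c < 1408, ∀ l ∈ cert.sg 1, ∃ s, cert.schreierOne 1 c l s = true := by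
  intro c hc l hl
  by_cases h0 : c < 128
  · obtain ⟨s, hs⟩ := cert.schreierOK_spec sch1_0 (c - 0) (by simp only [wit1_0, List.length_cons, List.length_nil]; omega) l hl
    exact ⟨s, by rwa [show 0 + (c - 0) = c by omega] at hs⟩
  by_cases h1 : c < 256
  · obtain ⟨s, hs⟩ := cert.schreierOK_spec sch1_1 (c - 128) (by simp only [wit1_1, List.length_cons, List.length_nil]; omega) l hl
    exact ⟨s, by rwa [show 128 + (c - 128) = c by omega] at hs⟩
  by_cases h2 : c < 384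
  · obtain ⟨s, hs⟩ := cert.schreierOK_spec sch1_2 (c - 256) (by simp only [wit1_2, List.length_cons, List.length_nil]; omega) l hl
    exact ⟨s, by rwa [show 256 + (c - 256) = c by omega] at hs⟩
  by_cases h3 : c < 512
  · obtain ⟨s, hs⟩ := cert.schreierOK_spec sch1_3 (c - 384) (by simp only [wit1_3, List.length_cons, List.length_nil]; omega) l hl
    exact ⟨s, by rwa [show 384 + (c - 384) = c by omega] at hs⟩
  by_cases h4 : c < 640
  · obtain ⟨s, hs⟩ := cert.schreierOK_spec sch1_4 (c - 512) (by simp only [wit1_4, List.length_cons, List.length_nil]; omega) l hl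
    exact ⟨s, by rwa [show 512 + (c - 512) = c by omega] at hs⟩
  by_cases h5 : c < 768
  · obtain ⟨s, hs⟩ := cert.schreierOK_spec sch1_5 (c - 640) (by simp only [wit1_5, List.length_cons, List.length_nil]; omega) l hl
    exact ⟨s, by rwa [show 640 + (c - 640) = c by omega] at hs⟩
  by_cases h6 : c < 896
  · obtain ⟨s, hs⟩ := cert.schreierOK_spec sch1_6 (c - 768) (by simp only [wit1_6, List.length_cons, List.length_nil]; omega) l hl
    exact ⟨s, by rwa [show 768 + (c - 768) = c by omega] at hs⟩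
  by_cases h7 : c < 1024
  · obtain ⟨s, hs⟩ := cert.schreierOK_spec sch1_7 (c - 896) (by simp only [wit1_7, List.length_cons, List.length_nil]; omega) l hl
    exact ⟨s, by rwa [show 896 + (c - 896) = c by omega] at hs⟩
  by_cases h8 : c < 1152
  · obtain ⟨s, hs⟩ := cert.schreierOK_spec sch1_8 (c - 1024) (by simp only [wit1_8, List.length_cons, List.length_nil]; omega) l hl
    exact ⟨s, by rwa [show 1024 + (c - 1024) = c by omega] at hs⟩
  by_cases h9 : c < 1280
  · obtain ⟨s, hs⟩ := cert.schreierOK_spec sch1_9 (c - 1152) (by simp only [wit1_9, List.length_cons, List.length_nil]; omega) l hl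
    exact ⟨s, by rwa [show 1152 + (c - 1152) = c by omega] at hs⟩
  by_cases h10 : c < 1408
  · obtain ⟨s, hs⟩ := cert.schreierOK_spec sch1_10 (c - 1280) (by simp only [wit1_10, List.length_cons, List.length_nil]; omega) l hl
    exact ⟨s, by rwa [show 1280 + (c - 1280) = c by omega] at hs⟩
  omega

theorem sch2_all : ∀ c < 1408, ∀ l ∈ cert.sg 2, ∃ s, cert.schreierOne 2 c l s = true := by
  intro c hc l hl
  by_cases h0 : c < 128
  · obtain ⟨s, hs⟩ := cert.schreierOK_spec sch2_0 (c - 0) (by simp only [wit2_0, List.length_cons, List.length_nil]; omega) l hl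
    exact ⟨s, by rwa [show 0 + (c - 0) = c by omega] at hs⟩
  by_cases h1 : c < 256
  · obtain ⟨s, hs⟩ := cert.schreierOK_spec sch2_1 (c - 128) (by simp only [wit2_1, List.length_cons, List.length_nil]; omega) l hl
    exact ⟨s, by rwa [show 128 + (c - 128) = c by omega] at hs⟩
  by_cases h2 : c < 384
  · obtain ⟨s, hs⟩ := cert.schreierOK_spec sch2_2 (c - 256) (by simp only [wit2_2, List.length_cons, List.length_nil]; omega) l hl
    exact ⟨s, by rwa [show 256 + (c - 256) = c by omega] at hs⟩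
  by_cases h3 : c < 512
  · obtain ⟨s, hs⟩ := cert.schreierOK_spec sch2_3 (c - 384) (by simp only [wit2_3, List.length_cons, List.length_nil]; omega) l hl
    exact ⟨s, by rwa [show 384 + (c - 384) = c by omega] at hs⟩
  by_cases h4 : c < 640
  · obtain ⟨s, hs⟩ := cert.schreierOK_spec sch2_4 (c - 512) (by simp only [wit2_4, List.length_cons, List.length_nil]; omega) l hl
    exact ⟨s, by rwa [show 512 + (c - 512) = c by omega] at hs⟩
  by_cases h5 : c < 768
  · obtain ⟨s, hs⟩ := cert.schreierOK_spec sch2_5 (c - 640) (by simp only [wit2_5, List.length_cons, List.length_nil]; omega) l hl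
    exact ⟨s, by rwa [show 640 + (c - 640) = c by omega] at hs⟩
  by_cases h6 : c < 896
  · obtain ⟨s, hs⟩ := cert.schreierOK_spec sch2_6 (c - 768) (by simp only [wit2_6, List.length_cons, List.length_nil]; omega) l hl
    exact ⟨s, by rwa [show 768 + (c - 768) = c by omega] at hs⟩
  by_cases h7 : c < 1024
  · obtain ⟨s, hs⟩ := cert.schreierOK_spec sch2_7 (c - 896) (by simp only [wit2_7, List.length_cons, List.length_nil]; omega) l hl
    exact ⟨s, by rwa [show 896 + (c - 896) = c by omega] at hs⟩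
  by_cases h8 : c < 1152
  · obtain ⟨s, hs⟩ := cert.schreierOK_spec sch2_8 (c - 1024) (by simp only [wit2_8, List.length_cons, List.length_nil]; omega) l hl
    exact ⟨s, by rwa [show 1024 + (c - 1024) = c by omega] at hs⟩
  by_cases h9 : c < 1280
  · obtain ⟨s, hs⟩ := cert.schreierOK_spec sch2_9 (c - 1152) (by simp only [wit2_9, List.length_cons, List.length_nil]; omega) l hl
    exact ⟨s, by rwa [show 1152 + (c - 1152) = c by omega] at hs⟩
  by_cases h10 : c < 1408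
  · obtain ⟨s, hs⟩ := cert.schreierOK_spec sch2_10 (c - 1280) (by simp only [wit2_10, List.length_cons, List.length_nil]; omega) l hl
    exact ⟨s, by rwa [show 1280 + (c - 1280) = c by omega] at hs⟩
  omega

theorem sch3_all : ∀ c < 1408, ∀ l ∈ cert.sg 3, ∃ s, cert.schreierOne 3 c l s = true := by
  intro c hc l hl
  by_cases h0 : c < 128
  · obtain ⟨s, hs⟩ := cert.schreierOK_spec sch3_0 (c - 0) (by simp only [wit3_0, List.length_cons, List.length_nil]; omega) l hl
    exact ⟨s, by rwa [show 0 + (c - 0) = c by omega] at hs⟩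
  by_cases h1 : c < 256
  · obtain ⟨s, hs⟩ := cert.schreierOK_spec sch3_1 (c - 128) (by simp only [wit3_1, List.length_cons, List.length_nil]; omega) l hl
    exact ⟨s, by rwa [show 128 + (c - 128) = c by omega] at hs⟩
  by_cases h2 : c < 384
  · obtain ⟨s, hs⟩ := cert.schreierOK_spec sch3_2 (c - 256) (by simp only [wit3_2, List.length_cons, List.length_nil]; omega) l hl
    exact ⟨s, by rwa [show 256 + (c - 256) = c by omega] at hs⟩
  by_cases h3 : c < 512
  · obtain ⟨s, hs⟩ := cert.schreierOK_spec sch3_3 (c - 384) (by simp only [wit3_3, List.length_cons, List.length_nil]; omega) l hl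
    exact ⟨s, by rwa [show 384 + (c - 384) = c by omega] at hs⟩
  by_cases h4 : c < 640
  · obtain ⟨s, hs⟩ := cert.schreierOK_spec sch3_4 (c - 512) (by simp only [wit3_4, List.length_cons, List.length_nil]; omega) l hl
    exact ⟨s, by rwa [show 512 + (c - 512) = c by omega] at hs⟩
  by_cases h5 : c < 768
  · obtain ⟨s, hs⟩ := cert.schreierOK_spec sch3_5 (c - 640) (by simp only [wit3_5, List.length_cons, List.length_nil]; omega) l hl
    exact ⟨s, by rwa [show 640 + (c - 640) = c by omega] at hs⟩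
  by_cases h6 : c < 896
  · obtain ⟨s, hs⟩ := cert.schreierOK_spec sch3_6 (c - 768) (by simp only [wit3_6, List.length_cons, List.length_nil]; omega) l hl
    exact ⟨s, by rwa [show 768 + (c - 768) = c by omega] at hs⟩
  by_cases h7 : c < 1024
  · obtain ⟨s, hs⟩ := cert.schreierOK_spec sch3_7 (c - 896) (by simp only [wit3_7, List.length_cons, List.length_nil]; omega) l hl
    exact ⟨s, by rwa [show 896 + (c - 896) = c by omega] at hs⟩
  by_cases h8 : c < 1152
  · obtain ⟨s, hs⟩ := cert.schreierOK_spec sch3_8 (c - 1024) (by simp only [wit3_8, List.length_cons, List.length_nil]; omega) l hl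
    exact ⟨s, by rwa [show 1024 + (c - 1024) = c by omega] at hs⟩
  by_cases h9 : c < 1280
  · obtain ⟨s, hs⟩ := cert.schreierOK_spec sch3_9 (c - 1152) (by simp only [wit3_9, List.length_cons, List.length_nil]; omega) l hl
    exact ⟨s, by rwa [show 1152 + (c - 1152) = c by omega] at hs⟩
  by_cases h10 : c < 1408
  · obtain ⟨s, hs⟩ := cert.schreierOK_spec sch3_10 (c - 1280) (by simp only [wit3_10, List.length_cons, List.length_nil]; omega) l hl
    exact ⟨s, by rwa [show 1280 + (c - 1280) = c by omega] at hs⟩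
  omega

theorem sch4_all : ∀ c < 1408, ∀ l ∈ cert.sg 4, ∃ s, cert.schreierOne 4 c l s = true := by
  intro c hc l hl
  by_cases h0 : c < 128
  · obtain ⟨s, hs⟩ := cert.schreierOK_spec sch4_0 (c - 0) (by simp only [wit4_0, List.length_cons, List.length_nil]; omega) l hl
    exact ⟨s, by rwa [show 0 + (c - 0) = c by omega] at hs⟩
  by_cases h1 : c < 256
  · obtain ⟨s, hs⟩ := cert.schreierOK_spec sch4_1 (c - 128) (by simp only [wit4_1, List.length_cons, List.length_nil]; omega) l hl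
    exact ⟨s, by rwa [show 128 + (c - 128) = c by omega] at hs⟩
  by_cases h2 : c < 384
  · obtain ⟨s, hs⟩ := cert.schreierOK_spec sch4_2 (c - 256) (by simp only [wit4_2, List.length_cons, List.length_nil]; omega) l hl
    exact ⟨s, by rwa [show 256 + (c - 256) = c by omega] at hs⟩
  by_cases h3 : c < 512
  · obtain ⟨s, hs⟩ := cert.schreierOK_spec sch4_3 (c - 384) (by simp only [wit4_3, List.length_cons, List.length_nil]; omega) l hl
    exact ⟨s, by rwa [show 384 + (c - 384) = c by omega] at hs⟩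
  by_cases h4 : c < 640
  · obtain ⟨s, hs⟩ := cert.schreierOK_spec sch4_4 (c - 512) (by simp only [wit4_4, List.length_cons, List.length_nil]; omega) l hl
    exact ⟨s, by rwa [show 512 + (c - 512) = c by omega] at hs⟩
  by_cases h5 : c < 768
  · obtain ⟨s, hs⟩ := cert.schreierOK_spec sch4_5 (c - 640) (by simp only [wit4_5, List.length_cons, List.length_nil]; omega) l hl
    exact ⟨s, by rwa [show 640 + (c - 640) = c by omega] at hs⟩
  by_cases h6 : c < 896
  · obtain ⟨s, hs⟩ := cert.schreierOK_spec sch4_6 (c - 768) (by simp only [wit4_6, List.length_cons, List.length_nil]; omega) l hl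
    exact ⟨s, by rwa [show 768 + (c - 768) = c by omega] at hs⟩
  by_cases h7 : c < 1024
  · obtain ⟨s, hs⟩ := cert.schreierOK_spec sch4_7 (c - 896) (by simp only [wit4_7, List.length_cons, List.length_nil]; omega) l hl
    exact ⟨s, by rwa [show 896 + (c - 896) = c by omega] at hs⟩
  by_cases h8 : c < 1152
  · obtain ⟨s, hs⟩ := cert.schreierOK_spec sch4_8 (c - 1024) (by simp only [wit4_8, List.length_cons, List.length_nil]; omega) l hl
    exact ⟨s, by rwa [show 1024 + (c - 1024) = c by omega] at hs⟩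
  by_cases h9 : c < 1280
  · obtain ⟨s, hs⟩ := cert.schreierOK_spec sch4_9 (c - 1152) (by simp only [wit4_9, List.length_cons, List.length_nil]; omega) l hl
    exact ⟨s, by rwa [show 1152 + (c - 1152) = c by omega] at hs⟩
  by_cases h10 : c < 1408
  · obtain ⟨s, hs⟩ := cert.schreierOK_spec sch4_10 (c - 1280) (by simp only [wit4_10, List.length_cons, List.length_nil]; omega) l hl
    exact ⟨s, by rwa [show 1280 + (c - 1280) = c by omega] at hs⟩
  omega

theorem sch5_all : ∀ c < 1408, ∀ l ∈ cert.sg 5, ∃ s, cert.schreierOne 5 c l s = true := by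
  intro c hc l hl
  by_cases h0 : c < 128
  · obtain ⟨s, hs⟩ := cert.schreierOK_spec sch5_0 (c - 0) (by simp only [wit5_0, List.length_cons, List.length_nil]; omega) l hl
    exact ⟨s, by rwa [show 0 + (c - 0) = c by omega] at hs⟩
  by_cases h1 : c < 256
  · obtain ⟨s, hs⟩ := cert.schreierOK_spec sch5_1 (c - 128) (by simp only [wit5_1, List.length_cons, List.length_nil]; omega) l hl
    exact ⟨s, by rwa [show 128 + (c - 128) = c by omega] at hs⟩
  by_cases h2 : c < 384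
  · obtain ⟨s, hs⟩ := cert.schreierOK_spec sch5_2 (c - 256) (by simp only [wit5_2, List.length_cons, List.length_nil]; omega) l hl
    exact ⟨s, by rwa [show 256 + (c - 256) = c by omega] at hs⟩
  by_cases h3 : c < 512
  · obtain ⟨s, hs⟩ := cert.schreierOK_spec sch5_3 (c - 384) (by simp only [wit5_3, List.length_cons, List.length_nil]; omega) l hl
    exact ⟨s, by rwa [show 384 + (c - 384) = c by omega] at hs⟩
  by_cases h4 : c < 640
  · obtain ⟨s, hs⟩ := cert.schreierOK_spec sch5_4 (c - 512) (by simp only [wit5_4, List.length_cons, List.length_nil]; omega) l hl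
    exact ⟨s, by rwa [show 512 + (c - 512) = c by omega] at hs⟩
  by_cases h5 : c < 768
  · obtain ⟨s, hs⟩ := cert.schreierOK_spec sch5_5 (c - 640) (by simp only [wit5_5, List.length_cons, List.length_nil]; omega) l hl
    exact ⟨s, by rwa [show 640 + (c - 640) = c by omega] at hs⟩
  by_cases h6 : c < 896
  · obtain ⟨s, hs⟩ := cert.schreierOK_spec sch5_6 (c - 768) (by simp only [wit5_6, List.length_cons, List.length_nil]; omega) l hl
    exact ⟨s, by rwa [show 768 + (c - 768) = c by omega] at hs⟩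
  by_cases h7 : c < 1024
  · obtain ⟨s, hs⟩ := cert.schreierOK_spec sch5_7 (c - 896) (by simp only [wit5_7, List.length_cons, List.length_nil]; omega) l hl
    exact ⟨s, by rwa [show 896 + (c - 896) = c by omega] at hs⟩
  by_cases h8 : c < 1152
  · obtain ⟨s, hs⟩ := cert.schreierOK_spec sch5_8 (c - 1024) (by simp only [wit5_8, List.length_cons, List.length_nil]; omega) l hl
    exact ⟨s, by rwa [show 1024 + (c - 1024) = c by omega] at hs⟩
  by_cases h9 : c < 1280
  · obtain ⟨s, hs⟩ := cert.schreierOK_spec sch5_9 (c - 1152) (by simp only [wit5_9, List.length_cons, List.length_nil]; omega) l hl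
    exact ⟨s, by rwa [show 1152 + (c - 1152) = c by omega] at hs⟩
  by_cases h10 : c < 1408
  · obtain ⟨s, hs⟩ := cert.schreierOK_spec sch5_10 (c - 1280) (by simp only [wit5_10, List.length_cons, List.length_nil]; omega) l hl
    exact ⟨s, by rwa [show 1280 + (c - 1280) = c by omega] at hs⟩
  omega

theorem sch6_all : ∀ c < 1408, ∀ l ∈ cert.sg 6, ∃ s, cert.schreierOne 6 c l s = true := by
  intro c hc l hl
  by_cases h0 : c < 128
  · obtain ⟨s, hs⟩ := cert.schreierOK_spec sch6_0 (c - 0) (by simp only [wit6_0, List.length_cons, List.length_nil]; omega) l hl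
    exact ⟨s, by rwa [show 0 + (c - 0) = c by omega] at hs⟩
  by_cases h1 : c < 256
  · obtain ⟨s, hs⟩ := cert.schreierOK_spec sch6_1 (c - 128) (by simp only [wit6_1, List.length_cons, List.length_nil]; omega) l hl
    exact ⟨s, by rwa [show 128 + (c - 128) = c by omega] at hs⟩
  by_cases h2 : c < 384
  · obtain ⟨s, hs⟩ := cert.schreierOK_spec sch6_2 (c - 256) (by simp only [wit6_2, List.length_cons, List.length_nil]; omega) l hl
    exact ⟨s, by rwa [show 256 + (c - 256) = c by omega] at hs⟩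
  by_cases h3 : c < 512
  · obtain ⟨s, hs⟩ := cert.schreierOK_spec sch6_3 (c - 384) (by simp only [wit6_3, List.length_cons, List.length_nil]; omega) l hl
    exact ⟨s, by rwa [show 384 + (c - 384) = c by omega] at hs⟩
  by_cases h4 : c < 640
  · obtain ⟨s, hs⟩ := cert.schreierOK_spec sch6_4 (c - 512) (by simp only [wit6_4, List.length_cons, List.length_nil]; omega) l hl
    exact ⟨s, by rwa [show 512 + (c - 512) = c by omega] at hs⟩
  by_cases h5 : c < 768
  · obtain ⟨s, hs⟩ := cert.schreierOK_spec sch6_5 (c - 640) (by simp only [wit6_5, List.length_cons, List.length_nil]; omega) l hl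
    exact ⟨s, by rwa [show 640 + (c - 640) = c by omega] at hs⟩
  by_cases h6 : c < 896
  · obtain ⟨s, hs⟩ := cert.schreierOK_spec sch6_6 (c - 768) (by simp only [wit6_6, List.length_cons, List.length_nil]; omega) l hl
    exact ⟨s, by rwa [show 768 + (c - 768) = c by omega] at hs⟩
  by_cases h7 : c < 1024
  · obtain ⟨s, hs⟩ := cert.schreierOK_spec sch6_7 (c - 896) (by simp only [wit6_7, List.length_cons, List.length_nil]; omega) l hl
    exact ⟨s, by rwa [show 896 + (c - 896) = c by omega] at hs⟩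
  by_cases h8 : c < 1152
  · obtain ⟨s, hs⟩ := cert.schreierOK_spec sch6_8 (c - 1024) (by simp only [wit6_8, List.length_cons, List.length_nil]; omega) l hl
    exact ⟨s, by rwa [show 1024 + (c - 1024) = c by omega] at hs⟩
  by_cases h9 : c < 1280
  · obtain ⟨s, hs⟩ := cert.schreierOK_spec sch6_9 (c - 1152) (by simp only [wit6_9, List.length_cons, List.length_nil]; omega) l hl
    exact ⟨s, by rwa [show 1152 + (c - 1152) = c by omega] at hs⟩
  by_cases h10 : c < 1408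
  · obtain ⟨s, hs⟩ := cert.schreierOK_spec sch6_10 (c - 1280) (by simp only [wit6_10, List.length_cons, List.length_nil]; omega) l hl
    exact ⟨s, by rwa [show 1280 + (c - 1280) = c by omega] at hs⟩
  omega

theorem sch7_all : ∀ c < 1408, ∀ l ∈ cert.sg 7, ∃ s, cert.schreierOne 7 c l s = true := by
  intro c hc l hl
  by_cases h0 : c < 128
  · obtain ⟨s, hs⟩ := cert.schreierOK_spec sch7_0 (c - 0) (by simp only [wit7_0, List.length_cons, List.length_nil]; omega) l hl
    exact ⟨s, by rwa [show 0 + (c - 0) = c by omega] at hs⟩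
  by_cases h1 : c < 256
  · obtain ⟨s, hs⟩ := cert.schreierOK_spec sch7_1 (c - 128) (by simp only [wit7_1, List.length_cons, List.length_nil]; omega) l hl
    exact ⟨s, by rwa [show 128 + (c - 128) = c by omega] at hs⟩
  by_cases h2 : c < 384
  · obtain ⟨s, hs⟩ := cert.schreierOK_spec sch7_2 (c - 256) (by simp only [wit7_2, List.length_cons, List.length_nil]; omega) l hl
    exact ⟨s, by rwa [show 256 + (c - 256) = c by omega] at hs⟩
  by_cases h3 : c < 512
  · obtain ⟨s, hs⟩ := cert.schreierOK_spec sch7_3 (c - 384) (by simp only [wit7_3, List.length_cons, List.length_nil]; omega) l hl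
    exact ⟨s, by rwa [show 384 + (c - 384) = c by omega] at hs⟩
  by_cases h4 : c < 640
  · obtain ⟨s, hs⟩ := cert.schreierOK_spec sch7_4 (c - 512) (by simp only [wit7_4, List.length_cons, List.length_nil]; omega) l hl
    exact ⟨s, by rwa [show 512 + (c - 512) = c by omega] at hs⟩
  by_cases h5 : c < 768
  · obtain ⟨s, hs⟩ := cert.schreierOK_spec sch7_5 (c - 640) (by simp only [wit7_5, List.length_cons, List.length_nil]; omega) l hl
    exact ⟨s, by rwa [show 640 + (c - 640) = c by omega] at hs⟩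
  by_cases h6 : c < 896
  · obtain ⟨s, hs⟩ := cert.schreierOK_spec sch7_6 (c - 768) (by simp only [wit7_6, List.length_cons, List.length_nil]; omega) l hl
    exact ⟨s, by rwa [show 768 + (c - 768) = c by omega] at hs⟩
  by_cases h7 : c < 1024
  · obtain ⟨s, hs⟩ := cert.schreierOK_spec sch7_7 (c - 896) (by simp only [wit7_7, List.length_cons, List.length_nil]; omega) l hl
    exact ⟨s, by rwa [show 896 + (c - 896) = c by omega] at hs⟩
  by_cases h8 : c < 1152
  · obtain ⟨s, hs⟩ := cert.schreierOK_spec sch7_8 (c - 1024) (by simp only [wit7_8, List.length_cons, List.length_nil]; omega) l hl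
    exact ⟨s, by rwa [show 1024 + (c - 1024) = c by omega] at hs⟩
  by_cases h9 : c < 1280
  · obtain ⟨s, hs⟩ := cert.schreierOK_spec sch7_9 (c - 1152) (by simp only [wit7_9, List.length_cons, List.length_nil]; omega) l hl
    exact ⟨s, by rwa [show 1152 + (c - 1152) = c by omega] at hs⟩
  by_cases h10 : c < 1408
  · obtain ⟨s, hs⟩ := cert.schreierOK_spec sch7_10 (c - 1280) (by simp only [wit7_10, List.length_cons, List.length_nil]; omega) l hl
    exact ⟨s, by rwa [show 1280 + (c - 1280) = c by omega] at hs⟩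
  omega

theorem sch8_all : ∀ c < 1408, ∀ l ∈ cert.sg 8, ∃ s, cert.schreierOne 8 c l s = true := by
  intro c hc l hl
  by_cases h0 : c < 128
  · obtain ⟨s, hs⟩ := cert.schreierOK_spec sch8_0 (c - 0) (by simp only [wit8_0, List.length_cons, List.length_nil]; omega) l hl
    exact ⟨s, by rwa [show 0 + (c - 0) = c by omega] at hs⟩
  by_cases h1 : c < 256
  · obtain ⟨s, hs⟩ := cert.schreierOK_spec sch8_1 (c - 128) (by simp only [wit8_1, List.length_cons, List.length_nil]; omega) l hl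
    exact ⟨s, by rwa [show 128 + (c - 128) = c by omega] at hs⟩
  by_cases h2 : c < 384
  · obtain ⟨s, hs⟩ := cert.schreierOK_spec sch8_2 (c - 256) (by simp only [wit8_2, List.length_cons, List.length_nil]; omega) l hl
    exact ⟨s, by rwa [show 256 + (c - 256) = c by omega] at hs⟩
  by_cases h3 : c < 512
  · obtain ⟨s, hs⟩ := cert.schreierOK_spec sch8_3 (c - 384) (by simp only [wit8_3, List.length_cons, List.length_nil]; omega) l hl
    exact ⟨s, by rwa [show 384 + (c - 384) = c by omega] at hs⟩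
  by_cases h4 : c < 640
  · obtain ⟨s, hs⟩ := cert.schreierOK_spec sch8_4 (c - 512) (by simp only [wit8_4, List.length_cons, List.length_nil]; omega) l hl
    exact ⟨s, by rwa [show 512 + (c - 512) = c by omega] at hs⟩
  by_cases h5 : c < 768
  · obtain ⟨s, hs⟩ := cert.schreierOK_spec sch8_5 (c - 640) (by simp only [wit8_5, List.length_cons, List.length_nil]; omega) l hl
    exact ⟨s, by rwa [show 640 + (c - 640) = c by omega] at hs⟩
  by_cases h6 : c < 896
  · obtain ⟨s, hs⟩ := cert.schreierOK_spec sch8_6 (c - 768) (by simp only [wit8_6, List.length_cons, List.length_nil]; omega) l hl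
    exact ⟨s, by rwa [show 768 + (c - 768) = c by omega] at hs⟩
  by_cases h7 : c < 1024
  · obtain ⟨s, hs⟩ := cert.schreierOK_spec sch8_7 (c - 896) (by simp only [wit8_7, List.length_cons, List.length_nil]; omega) l hl
    exact ⟨s, by rwa [show 896 + (c - 896) = c by omega] at hs⟩
  by_cases h8 : c < 1152
  · obtain ⟨s, hs⟩ := cert.schreierOK_spec sch8_8 (c - 1024) (by simp only [wit8_8, List.length_cons, List.length_nil]; omega) l hl
    exact ⟨s, by rwa [show 1024 + (c - 1024) = c by omega] at hs⟩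
  by_cases h9 : c < 1280
  · obtain ⟨s, hs⟩ := cert.schreierOK_spec sch8_9 (c - 1152) (by simp only [wit8_9, List.length_cons, List.length_nil]; omega) l hl
    exact ⟨s, by rwa [show 1152 + (c - 1152) = c by omega] at hs⟩
  by_cases h10 : c < 1408
  · obtain ⟨s, hs⟩ := cert.schreierOK_spec sch8_10 (c - 1280) (by simp only [wit8_10, List.length_cons, List.length_nil]; omega) l hl
    exact ⟨s, by rwa [show 1280 + (c - 1280) = c by omega] at hs⟩
  omega

theorem schreier_all : ∀ i < 9, ∀ c < 1408, ∀ l ∈ cert.sg i, ∃ s, cert.schreierOne i c l s = true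
  | 0, _ => sch0_all
  | 1, _ => sch1_all
  | 2, _ => sch2_all
  | 3, _ => sch3_all
  | 4, _ => sch4_all
  | 5, _ => sch5_all
  | 6, _ => sch6_all
  | 7, _ => sch7_all
  | 8, _ => sch8_all
  | i + 9, h => absurd h (Nat.not_lt.mpr (Nat.le_add_left 9 i))

theorem loopA_all : ∀ k < 101, ∃ st s, cert.loopOK (cert.src k) (cert.nw k) st [5, 5, 5, 5, 5] s = true := by
  intro k hk
  by_cases h0 : k < 26
  · obtain ⟨st, s, hs⟩ := cert.loopsEdge_spec loopA0_ok (k - 0) (by simp only [loopA0, List.length_cons, List.length_nil]; omega)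
    rw [show 0 + (k - 0) = k by omega] at hs
    exact ⟨st, s, hs⟩
  by_cases h1 : k < 52
  · obtain ⟨st, s, hs⟩ := cert.loopsEdge_spec loopA1_ok (k - 26) (by simp only [loopA1, List.length_cons, List.length_nil]; omega)
    rw [show 26 + (k - 26) = k by omega] at hs
    exact ⟨st, s, hs⟩
  by_cases h2 : k < 78
  · obtain ⟨st, s, hs⟩ := cert.loopsEdge_spec loopA2_ok (k - 52) (by simp only [loopA2, List.length_cons, List.length_nil]; omega)
    rw [show 52 + (k - 52) = k by omega] at hs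
    exact ⟨st, s, hs⟩
  by_cases h3 : k < 101
  · obtain ⟨st, s, hs⟩ := cert.loopsEdge_spec loopA3_ok (k - 78) (by simp only [loopA3, List.length_cons, List.length_nil]; omega)
    rw [show 78 + (k - 78) = k by omega] at hs
    exact ⟨st, s, hs⟩
  omega

theorem loopX_all : ∀ k < 101, ∃ st s, cert.loopOK (cert.src k) (cert.nw k) st [2, 5, 1, 5, 5] s = true := by
  intro k hk
  by_cases h0 : k < 26
  · obtain ⟨st, s, hs⟩ := cert.loopsEdge_spec loopX0_ok (k - 0) (by simp only [loopX0, List.length_cons, List.length_nil]; omega)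
    rw [show 0 + (k - 0) = k by omega] at hs
    exact ⟨st, s, hs⟩
  by_cases h1 : k < 52
  · obtain ⟨st, s, hs⟩ := cert.loopsEdge_spec loopX1_ok (k - 26) (by simp only [loopX1, List.length_cons, List.length_nil]; omega)
    rw [show 26 + (k - 26) = k by omega] at hs
    exact ⟨st, s, hs⟩
  by_cases h2 : k < 78
  · obtain ⟨st, s, hs⟩ := cert.loopsEdge_spec loopX2_ok (k - 52) (by simp only [loopX2, List.length_cons, List.length_nil]; omega)
    rw [show 52 + (k - 52) = k by omega] at hs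
    exact ⟨st, s, hs⟩
  by_cases h3 : k < 101
  · obtain ⟨st, s, hs⟩ := cert.loopsEdge_spec loopX3_ok (k - 78) (by simp only [loopX3, List.length_cons, List.length_nil]; omega)
    rw [show 78 + (k - 78) = k by omega] at hs
    exact ⟨st, s, hs⟩
  omega

theorem loopZ_pairs : ∀ k < 101, ∃ a b : List (List (ℕ × ℕ × ℕ) × ℕ),
    cert.loopsShift [0, 5, 0, 5, 0, 5] k (qpts.take 25) a = true ∧ cert.loopsShift [0, 5, 0, 5, 0, 5] k (qpts.drop 25) b = true
  | 0, _ => ⟨_, _, loopZ0_0_ok, loopZ0_1_ok⟩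
  | 1, _ => ⟨_, _, loopZ1_0_ok, loopZ1_1_ok⟩
  | 2, _ => ⟨_, _, loopZ2_0_ok, loopZ2_1_ok⟩
  | 3, _ => ⟨_, _, loopZ3_0_ok, loopZ3_1_ok⟩
  | 4, _ => ⟨_, _, loopZ4_0_ok, loopZ4_1_ok⟩
  | 5, _ => ⟨_, _, loopZ5_0_ok, loopZ5_1_ok⟩
  | 6, _ => ⟨_, _, loopZ6_0_ok, loopZ6_1_ok⟩
  | 7, _ => ⟨_, _, loopZ7_0_ok, loopZ7_1_ok⟩
  | 8, _ => ⟨_, _, loopZ8_0_ok, loopZ8_1_ok⟩
  | 9, _ => ⟨_, _, loopZ9_0_ok, loopZ9_1_ok⟩
  | 10, _ => ⟨_, _, loopZ10_0_ok, loopZ10_1_ok⟩
  | 11, _ => ⟨_, _, loopZ11_0_ok, loopZ11_1_ok⟩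
  | 12, _ => ⟨_, _, loopZ12_0_ok, loopZ12_1_ok⟩
  | 13, _ => ⟨_, _, loopZ13_0_ok, loopZ13_1_ok⟩
  | 14, _ => ⟨_, _, loopZ14_0_ok, loopZ14_1_ok⟩
  | 15, _ => ⟨_, _, loopZ15_0_ok, loopZ15_1_ok⟩
  | 16, _ => ⟨_, _, loopZ16_0_ok, loopZ16_1_ok⟩
  | 17, _ => ⟨_, _, loopZ17_0_ok, loopZ17_1_ok⟩
  | 18, _ => ⟨_, _, loopZ18_0_ok, loopZ18_1_ok⟩
  | 19, _ => ⟨_, _, loopZ19_0_ok, loopZ19_1_ok⟩
  | 20, _ => ⟨_, _, loopZ20_0_ok, loopZ20_1_ok⟩
  | 21, _ => ⟨_, _, loopZ21_0_ok, loopZ21_1_ok⟩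
  | 22, _ => ⟨_, _, loopZ22_0_ok, loopZ22_1_ok⟩
  | 23, _ => ⟨_, _, loopZ23_0_ok, loopZ23_1_ok⟩
  | 24, _ => ⟨_, _, loopZ24_0_ok, loopZ24_1_ok⟩
  | 25, _ => ⟨_, _, loopZ25_0_ok, loopZ25_1_ok⟩
  | 26, _ => ⟨_, _, loopZ26_0_ok, loopZ26_1_ok⟩
  | 27, _ => ⟨_, _, loopZ27_0_ok, loopZ27_1_ok⟩
  | 28, _ => ⟨_, _, loopZ28_0_ok, loopZ28_1_ok⟩
  | 29, _ => ⟨_, _, loopZ29_0_ok, loopZ29_1_ok⟩
  | 30, _ => ⟨_, _, loopZ30_0_ok, loopZ30_1_ok⟩
  | 31, _ => ⟨_, _, loopZ31_0_ok, loopZ31_1_ok⟩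
  | 32, _ => ⟨_, _, loopZ32_0_ok, loopZ32_1_ok⟩
  | 33, _ => ⟨_, _, loopZ33_0_ok, loopZ33_1_ok⟩
  | 34, _ => ⟨_, _, loopZ34_0_ok, loopZ34_1_ok⟩
  | 35, _ => ⟨_, _, loopZ35_0_ok, loopZ35_1_ok⟩
  | 36, _ => ⟨_, _, loopZ36_0_ok, loopZ36_1_ok⟩
  | 37, _ => ⟨_, _, loopZ37_0_ok, loopZ37_1_ok⟩
  | 38, _ => ⟨_, _, loopZ38_0_ok, loopZ38_1_ok⟩
  | 39, _ => ⟨_, _, loopZ39_0_ok, loopZ39_1_ok⟩
  | 40, _ => ⟨_, _, loopZ40_0_ok, loopZ40_1_ok⟩
  | 41, _ => ⟨_, _, loopZ41_0_ok, loopZ41_1_ok⟩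
  | 42, _ => ⟨_, _, loopZ42_0_ok, loopZ42_1_ok⟩
  | 43, _ => ⟨_, _, loopZ43_0_ok, loopZ43_1_ok⟩
  | 44, _ => ⟨_, _, loopZ44_0_ok, loopZ44_1_ok⟩
  | 45, _ => ⟨_, _, loopZ45_0_ok, loopZ45_1_ok⟩
  | 46, _ => ⟨_, _, loopZ46_0_ok, loopZ46_1_ok⟩
  | 47, _ => ⟨_, _, loopZ47_0_ok, loopZ47_1_ok⟩
  | 48, _ => ⟨_, _, loopZ48_0_ok, loopZ48_1_ok⟩
  | 49, _ => ⟨_, _, loopZ49_0_ok, loopZ49_1_ok⟩
  | 50, _ => ⟨_, _, loopZ50_0_ok, loopZ50_1_ok⟩
  | 51, _ => ⟨_, _, loopZ51_0_ok, loopZ51_1_ok⟩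
  | 52, _ => ⟨_, _, loopZ52_0_ok, loopZ52_1_ok⟩
  | 53, _ => ⟨_, _, loopZ53_0_ok, loopZ53_1_ok⟩
  | 54, _ => ⟨_, _, loopZ54_0_ok, loopZ54_1_ok⟩
  | 55, _ => ⟨_, _, loopZ55_0_ok, loopZ55_1_ok⟩
  | 56, _ => ⟨_, _, loopZ56_0_ok, loopZ56_1_ok⟩
  | 57, _ => ⟨_, _, loopZ57_0_ok, loopZ57_1_ok⟩
  | 58, _ => ⟨_, _, loopZ58_0_ok, loopZ58_1_ok⟩
  | 59, _ => ⟨_, _, loopZ59_0_ok, loopZ59_1_ok⟩
  | 60, _ => ⟨_, _, loopZ60_0_ok, loopZ60_1_ok⟩
  | 61, _ => ⟨_, _, loopZ61_0_ok, loopZ61_1_ok⟩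
  | 62, _ => ⟨_, _, loopZ62_0_ok, loopZ62_1_ok⟩
  | 63, _ => ⟨_, _, loopZ63_0_ok, loopZ63_1_ok⟩
  | 64, _ => ⟨_, _, loopZ64_0_ok, loopZ64_1_ok⟩
  | 65, _ => ⟨_, _, loopZ65_0_ok, loopZ65_1_ok⟩
  | 66, _ => ⟨_, _, loopZ66_0_ok, loopZ66_1_ok⟩
  | 67, _ => ⟨_, _, loopZ67_0_ok, loopZ67_1_ok⟩
  | 68, _ => ⟨_, _, loopZ68_0_ok, loopZ68_1_ok⟩
  | 69, _ => ⟨_, _, loopZ69_0_ok, loopZ69_1_ok⟩
  | 70, _ => ⟨_, _, loopZ70_0_ok, loopZ70_1_ok⟩
  | 71, _ => ⟨_, _, loopZ71_0_ok, loopZ71_1_ok⟩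
  | 72, _ => ⟨_, _, loopZ72_0_ok, loopZ72_1_ok⟩
  | 73, _ => ⟨_, _, loopZ73_0_ok, loopZ73_1_ok⟩
  | 74, _ => ⟨_, _, loopZ74_0_ok, loopZ74_1_ok⟩
  | 75, _ => ⟨_, _, loopZ75_0_ok, loopZ75_1_ok⟩
  | 76, _ => ⟨_, _, loopZ76_0_ok, loopZ76_1_ok⟩
  | 77, _ => ⟨_, _, loopZ77_0_ok, loopZ77_1_ok⟩
  | 78, _ => ⟨_, _, loopZ78_0_ok, loopZ78_1_ok⟩
  | 79, _ => ⟨_, _, loopZ79_0_ok, loopZ79_1_ok⟩
  | 80, _ => ⟨_, _, loopZ80_0_ok, loopZ80_1_ok⟩
  | 81, _ => ⟨_, _, loopZ81_0_ok, loopZ81_1_ok⟩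
  | 82, _ => ⟨_, _, loopZ82_0_ok, loopZ82_1_ok⟩
  | 83, _ => ⟨_, _, loopZ83_0_ok, loopZ83_1_ok⟩
  | 84, _ => ⟨_, _, loopZ84_0_ok, loopZ84_1_ok⟩
  | 85, _ => ⟨_, _, loopZ85_0_ok, loopZ85_1_ok⟩
  | 86, _ => ⟨_, _, loopZ86_0_ok, loopZ86_1_ok⟩
  | 87, _ => ⟨_, _, loopZ87_0_ok, loopZ87_1_ok⟩
  | 88, _ => ⟨_, _, loopZ88_0_ok, loopZ88_1_ok⟩
  | 89, _ => ⟨_, _, loopZ89_0_ok, loopZ89_1_ok⟩
  | 90, _ => ⟨_, _, loopZ90_0_ok, loopZ90_1_ok⟩
  | 91, _ => ⟨_, _, loopZ91_0_ok, loopZ91_1_ok⟩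
  | 92, _ => ⟨_, _, loopZ92_0_ok, loopZ92_1_ok⟩
  | 93, _ => ⟨_, _, loopZ93_0_ok, loopZ93_1_ok⟩
  | 94, _ => ⟨_, _, loopZ94_0_ok, loopZ94_1_ok⟩
  | 95, _ => ⟨_, _, loopZ95_0_ok, loopZ95_1_ok⟩
  | 96, _ => ⟨_, _, loopZ96_0_ok, loopZ96_1_ok⟩
  | 97, _ => ⟨_, _, loopZ97_0_ok, loopZ97_1_ok⟩
  | 98, _ => ⟨_, _, loopZ98_0_ok, loopZ98_1_ok⟩
  | 99, _ => ⟨_, _, loopZ99_0_ok, loopZ99_1_ok⟩
  | 100, _ => ⟨_, _, loopZ100_0_ok, loopZ100_1_ok⟩
  | k + 101, h => absurd h (Nat.not_lt.mpr (Nat.le_add_left 101 k))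

theorem loopZ_halves : ∀ k < 101, ∀ p ∈ qpts, ∃ st s,
    cert.loopOK (cert.src k) (cert.nw k ++ invw cert.iv (unpack p.2)) st [0, 5, 0, 5, 0, 5] s = true := by
  intro k hk p hp
  obtain ⟨a, b, ha, hb⟩ := loopZ_pairs k hk
  rw [← List.take_append_drop 25 qpts, List.mem_append] at hp
  exact hp.elim (cert.loopsShift_spec ha p) (cert.loopsShift_spec hb p)

theorem deds_ok : cert.dedAll known0 (ded0 ++ ded1 ++ ded2 ++ ded3 ++ ded4 ++ ded5 ++ ded6 ++ ded7) = some known8 := by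
  simp only [Cert.dedAll_append, List.append_assoc, ded0_ok, ded1_ok, ded2_ok, ded3_ok, ded4_ok, ded5_ok,
    ded6_ok, ded7_ok, Option.bind_some]

end

end Data
end HN
end H77
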