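import Mathlib
import Cfsg.Agent.H77.HN.Data.Cert
import Cfsg.Agent.H77.HN.Data.Deds

/-!
Checks of the deductions (generated data).
-/

set_option autoImplicit false
set_option maxRecDepth 100000
set_option linter.all false

namespace H77
namespace HN
namespace Data

noncomputable section

def known0 : Known := Amalgam.init treeList

def known1 : Known := ⟨[(7, 39), (6, 37), (6, 35), (6, 33), (5, 31), (5, 29), (5, 27), (4, 25), (4, 23), (4, 21), (3, 19), (3, 17), (2, 15), (2, 13), (1, 11), (1, 9), (0, 0), (0, 1), (0, 2), (0, 3), (0, 4)], [87, 60, 20, 17, 9, 8, 6, 0]⟩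

theorem ded0_ok : cert.dedAll known0 ded0 = some known1 := by decide +kernel

def known2 : Known := ⟨[(4, 43), (8, 41), (7, 39), (6, 37), (6, 35), (6, 33), (5, 31), (5, 29), (5, 27), (4, 25), (4, 23), (4, 21), (3, 19), (3, 17), (2, 15), (2, 13), (1, 11), (1, 9), (0, 0), (0, 1), (0, 2), (0, 3), (0, 4)], [30, 44, 14, 13, 1, 2, 3, 47, 29, 32, 5, 45, 26, 4, 87, 60, 20, 17, 9, 8, 6, 0]⟩

theorem ded1_ok : cert.dedAll known1 ded1 = some known2 := by decide +kernel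

def known3 : Known := ⟨[(2, 47), (3, 45), (4, 43), (8, 41), (7, 39), (6, 37), (6, 35), (6, 33), (5, 31), (5, 29), (5, 27), (4, 25), (4, 23), (4, 21), (3, 19), (3, 17), (2, 15), (2, 13), (1, 11), (1, 9), (0, 0), (0, 1), (0, 2), (0, 3), (0, 4)], [42, 41, 38, 22, 50, 56, 12, 16, 7, 11, 15, 28, 31, 43, 30, 44, 14, 13, 1, 2, 3, 47, 29, 32, 5, 45, 26, 4, 87, 60, 20, 17, 9, 8, 6, 0]⟩

theorem ded2_ok : cert.dedAll known2 ded2 = some known3 := by decide +kernel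

def known4 : Known := ⟨[(6, 51), (4, 49), (2, 47), (3, 45), (4, 43), (8, 41), (7, 39), (6, 37), (6, 35), (6, 33), (5, 31), (5, 29), (5, 27), (4, 25), (4, 23), (4, 21), (3, 19), (3, 17), (2, 15), (2, 13), (1, 11), (1, 9), (0, 0), (0, 1), (0, 2), (0, 3), (0, 4)], [34, 49, 52, 23, 40, 58, 65, 57, 53, 59, 51, 92, 62, 19, 42, 41, 38, 22, 50, 56, 12, 16, 7, 11, 15, 28, 31, 43, 30, 44, 14, 13, 1, 2, 3, 47, 29, 32, 5, 45, 26, 4, 87, 60, 20, 17, 9, 8, 6, 0]⟩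

theorem ded3_ok : cert.dedAll known3 ded3 = some known4 := by decide +kernel

def known5 : Known := ⟨[(6, 59), (3, 57), (7, 55), (3, 53), (6, 51), (4, 49), (2, 47), (3, 45), (4, 43), (8, 41), (7, 39), (6, 37), (6, 35), (6, 33), (5, 31), (5, 29), (5, 27), (4, 25), (4, 23), (4, 21), (3, 19), (3, 17), (2, 15), (2, 13), (1, 11), (1, 9), (0, 0), (0, 1), (0, 2), (0, 3), (0, 4)], [80, 70, 18, 37, 36, 27, 10, 75, 33, 66, 55, 54, 34, 49, 52, 23, 40, 58, 65, 57, 53, 59, 51, 92, 62, 19, 42, 41, 38, 22, 50, 56, 12, 16, 7, 11, 15, 28, 31, 43, 30, 44, 14, 13, 1, 2, 3, 47, 29, 32, 5, 45, 26, 4, 87, 60, 20, 17, 9, 8, 6, 0]⟩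

theorem ded4_ok : cert.dedAll known4 ded4 = some known5 := by decide +kernel

def known6 : Known := ⟨[(5, 61), (6, 59), (3, 57), (7, 55), (3, 53), (6, 51), (4, 49), (2, 47), (3, 45), (4, 43), (8, 41), (7, 39), (6, 37), (6, 35), (6, 33), (5, 31), (5, 29), (5, 27), (4, 25), (4, 23), (4, 21), (3, 19), (3, 17), (2, 15), (2, 13), (1, 11), (1, 9), (0, 0), (0, 1), (0, 2), (0, 3), (0, 4)], [78, 74, 83, 48, 71, 85, 95, 35, 25, 24, 21, 79, 61, 39, 63, 80, 70, 18, 37, 36, 27, 10, 75, 33, 66, 55, 54, 34, 49, 52, 23, 40, 58, 65, 57, 53, 59, 51, 92, 62, 19, 42, 41, 38, 22, 50, 56, 12, 16, 7, 11, 15, 28, 31, 43, 30, 44, 14, 13, 1, 2, 3, 47, 29, 32, 5, 45, 26, 4, 87, 60, 20, 17, 9, 8, 6, 0]⟩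

theorem ded5_ok : cert.dedAll known5 ded5 = some known6 := by decide +kernel

def known7 : Known := ⟨[(7, 63), (5, 61), (6, 59), (3, 57), (7, 55), (3, 53), (6, 51), (4, 49), (2, 47), (3, 45), (4, 43), (8, 41), (7, 39), (6, 37), (6, 35), (6, 33), (5, 31), (5, 29), (5, 27), (4, 25), (4, 23), (4, 21), (3, 19), (3, 17), (2, 15), (2, 13), (1, 11), (1, 9), (0, 0), (0, 1), (0, 2), (0, 3), (0, 4)], [94, 91, 89, 81, 86, 82, 77, 73, 90, 46, 93, 68, 64, 72, 69, 78, 74, 83, 48, 71, 85, 95, 35, 25, 24, 21, 79, 61, 39, 63, 80, 70, 18, 37, 36, 27, 10, 75, 33, 66, 55, 54, 34, 49, 52, 23, 40, 58, 65, 57, 53, 59, 51, 92, 62, 19, 42, 41, 38, 22, 50, 56, 12, 16, 7, 11, 15, 28, 31, 43, 30, 44, 14, 13, 1, 2, 3, 47, 29, 32, 5, 45, 26, 4, 87, 60, 20, 17, 9, 8, 6, 0]⟩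

theorem ded6_ok : cert.dedAll known6 ded6 = some known7 := by decide +kernel

def known8 : Known := ⟨[(8, 73), (8, 71), (8, 69), (8, 67), (8, 65), (7, 63), (5, 61), (6, 59), (3, 57), (7, 55), (3, 53), (6, 51), (4, 49), (2, 47), (3, 45), (4, 43), (8, 41), (7, 39), (6, 37), (6, 35), (6, 33), (5, 31), (5, 29), (5, 27), (4, 25), (4, 23), (4, 21), (3, 19), (3, 17), (2, 15), (2, 13), (1, 11), (1, 9), (0, 0), (0, 1), (0, 2), (0, 3), (0, 4)], [100, 99, 88, 96, 97, 98, 67, 76, 84, 94, 91, 89, 81, 86, 82, 77, 73, 90, 46, 93, 68, 64, 72, 69, 78, 74, 83, 48, 71, 85, 95, 35, 25, 24, 21, 79, 61, 39, 63, 80, 70, 18, 37, 36, 27, 10, 75, 33, 66, 55, 54, 34, 49, 52, 23, 40, 58, 65, 57, 53, 59, 51, 92, 62, 19, 42, 41, 38, 22, 50, 56, 12, 16, 7, 11, 15, 28, 31, 43, 30, 44, 14, 13, 1, 2, 3, 47, 29, 32, 5, 45, 26, 4, 87, 60, 20, 17, 9, 8, 6, 0]⟩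

theorem ded7_ok : cert.dedAll known7 ded7 = some known8 := by decide +kernel

theorem done_ok : Amalgam.done cert known8 = true := by decide +kernel

theorem shape_ok : Amalgam.treeShape cert treeList = true := by decide +kernel

theorem ord_ok : cert.ordOK 177408000 ordTab treeList = true := by decide +kernel


end

end Data
end HN
end H77
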