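import Mathlib
import Cfsg.Agent.H77.HN.Data.Cert
import Cfsg.Agent.H77.HN.Data.Wit6

/-!
Checks of the Schreier elements (generated data).
-/

set_option autoImplicit false
set_option maxRecDepth 100000
set_option linter.all false

namespace H77
namespace HN
namespace Data

noncomputable section

theorem sch6_0 : cert.schreierOK 6 0 wit6_0 = true := by decide +kernel

theorem sch6_1 : cert.schreierOK 6 128 wit6_1 = true := by decide +kernel

theorem sch6_2 : cert.schreierOK 6 256 wit6_2 = true := by decide +kernel

theorem sch6_3 : cert.schreierOK 6 384 wit6_3 = true := by decide +kernel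

theorem sch6_4 : cert.schreierOK 6 512 wit6_4 = true := by decide +kernel

theorem sch6_5 : cert.schreierOK 6 640 wit6_5 = true := by decide +kernel

theorem sch6_6 : cert.schreierOK 6 768 wit6_6 = true := by decide +kernel

theorem sch6_7 : cert.schreierOK 6 896 wit6_7 = true := by decide +kernel

theorem sch6_8 : cert.schreierOK 6 1024 wit6_8 = true := by decide +kernel

theorem sch6_9 : cert.schreierOK 6 1152 wit6_9 = true := by decide +kernel

theorem sch6_10 : cert.schreierOK 6 1280 wit6_10 = true := by decide +kernel


end

end Data
end HN
end H77
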